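import Groth.Agent.StkBase.Descent

/-!
# Faithfulness and setoids, detected locally; full subcategories
-/

set_option autoImplicit false
set_option backward.isDefEq.respectTransparency false
set_option backward.isDefEq.respectTransparency.types false

universe v₄ u₄ v₃ u₃ v₂ u₂ v u

open CategoryTheory CategoryTheory.Limits

namespace Groth.StkBase

variable {C : Type u} [Category.{v} C]
variable {𝒳 : BasedCategory.{v₂, u₂} C} {𝒴 : BasedCategory.{v₃, u₃} C} {𝒵 : BasedCategory.{v₄, u₄} C}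

theorem faithful_of_vert (hX : FibCat.IsFibGrpd 𝒳.p) (hY : FibCat.IsFibGrpd 𝒴.p) (F : 𝒳 ⥤ᵇ 𝒴)
    (h : ∀ ⦃a b : 𝒳.obj⦄ (χ χ' : a ⟶ b), IsVert 𝒳.p χ → IsVert 𝒳.p χ' → F.map χ = F.map χ' → χ = χ') :
    F.toFunctor.Faithful := by
  refine ⟨fun {a b φ φ'} e => ?_⟩
  have hp : 𝒳.p.map φ = 𝒳.p.map φ' := by
    have := congrArg 𝒴.p.map e
    rw [map_map, map_map] at this
    exact (cancel_mono (eqToHom (F.w_obj b).symm)).1 ((cancel_epi (eqToHom (F.w_obj a))).1 this)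
  obtain ⟨b', l, hb', hl⟩ := exists_lift' hX (x := b) (𝒳.p.map φ)
  have hg : eqToHom hb'.symm ≫ 𝒳.p.map l = 𝒳.p.map φ := by simp [hl]
  have hg' : eqToHom hb'.symm ≫ 𝒳.p.map l = 𝒳.p.map φ' := hg.trans hp
  rw [← factor_comp hX l φ _ hg, ← factor_comp hX l φ' _ hg']
  congr 1
  refine h _ _ ⟨_, factor_map hX _ _ _ hg⟩ ⟨_, factor_map hX _ _ _ hg'⟩ ?_
  apply hom_eq_of_comp_eq hY (F.map l)
  · rw [map_map, map_map, factor_map, factor_map]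
  · rw [← Functor.map_comp, ← Functor.map_comp, factor_comp, factor_comp, e]

section Local

variable (J : GrothendieckTopology C) (F : 𝒵 ⥤ᵇ 𝒴) (G : 𝒳 ⥤ᵇ 𝒴)

/-- The data at one member of a cover used to compare two vertical morphisms locally. -/
theorem vert_eq_of_cover (hX : Stk.IsPrestack J 𝒳) (hY : FibCat.IsFibGrpd 𝒴.p)
    (hF : ∀ y : 𝒴.obj, ∃ R ∈ J (𝒴.p.obj y), ∀ ⦃V : C⦄ (f : V ⟶ 𝒴.p.obj y), R f →
      ∃ (x : 𝒵.obj) (φ : F.obj x ⟶ y), 𝒴.p.IsHomLift f φ)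
    {a b : 𝒳.obj} {χ χ' : a ⟶ b} (hχ : IsVert 𝒳.p χ) (hχ' : IsVert 𝒳.p χ')
    (hG : ∀ (x : 𝒵.obj) (a' b' : 𝒳.obj) (i : F.obj x ≅ G.obj a') (c c' : a' ⟶ b') (l : a' ⟶ a)
      (n : b' ⟶ b), IsVert 𝒴.p i.hom → IsVert 𝒳.p c → IsVert 𝒳.p c' → c ≫ n = l ≫ χ →
      c' ≫ n = l ≫ χ' → c = c') : χ = χ' := by
  obtain ⟨R, hR, hl⟩ := hF (G.obj a)
  refine vert_hom_ext_of_local hX.1 (R.pullback (eqToHom (G.w_obj a).symm))
    (hX.2 _ (J.pullback_stable _ hR)).2 hχ hχ' ?_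
  intro a' l hl'
  obtain ⟨x, φ, hφ⟩ := hl _ hl'
  obtain ⟨hx, hy, hp⟩ := (isHomLift_iff_eqToHom _ _).1 hφ
  obtain ⟨i, hi, -⟩ := exists_vert_iso_of_lifts hY φ (G.map l) (hx.trans (G.w_obj a').symm)
    (by rw [hp, map_map]; simp)
  obtain ⟨b', n, hb', hn⟩ := exists_lift' hX.1 (x := b) (𝒳.p.map (l ≫ χ))
  have hg : eqToHom hb'.symm ≫ 𝒳.p.map n = 𝒳.p.map (l ≫ χ) := by simp [hn]
  have hg' : eqToHom hb'.symm ≫ 𝒳.p.map n = 𝒳.p.map (l ≫ χ') := by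
    rw [hg, Functor.map_comp, Functor.map_comp, hχ.map_eq, hχ'.map_eq]
  rw [← factor_comp hX.1 n _ _ hg, ← factor_comp hX.1 n _ _ hg']
  congr 1
  exact hG x a' b' i _ _ l n hi ⟨_, factor_map hX.1 _ _ _ hg⟩ ⟨_, factor_map hX.1 _ _ _ hg'⟩
    (factor_comp ..) (factor_comp ..)

theorem faithful_of_faithful_fpFst (hX : Stk.IsPrestack J 𝒳) (hY : FibCat.IsFibGrpd 𝒴.p)
    (hF : ∀ y : 𝒴.obj, ∃ R ∈ J (𝒴.p.obj y), ∀ ⦃V : C⦄ (f : V ⟶ 𝒴.p.obj y), R f →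
      ∃ (x : 𝒵.obj) (φ : F.obj x ⟶ y), 𝒴.p.IsHomLift f φ)
    [(FibCat.fpFst F G).toFunctor.Faithful] : G.toFunctor.Faithful := by
  refine faithful_of_vert hX.1 hY G fun a b χ χ' hχ hχ' e => ?_
  refine vert_eq_of_cover J F G hX hY hF hχ hχ' fun x a' b' i c c' l n hi hc hc' h1 h2 => ?_
  have hcc : G.map c = G.map c' := by
    apply hom_eq_of_comp_eq hY (G.map n)
    · rw [map_map, map_map, hc.map_eq, hc'.map_eq]
    · rw [← Functor.map_comp, ← Functor.map_comp, h1, h2, Functor.map_comp, Functor.map_comp, e]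
  have := hc.isIso hX.1
  let A : (FibCat.fp F G).obj := fpMk x a' i hi
  let B : (FibCat.fp F G).obj := fpMk x b' (i ≪≫ asIso (G.map c)) (hi.comp (isVert_map hc))
  let u : A ⟶ B := fpHom (𝟙 x) c (by simp [A, B, fpMk])
  let u' : A ⟶ B := fpHom (𝟙 x) c' (by simp [A, B, fpMk, hcc])
  exact congrArg (fun t => t.hom.snd)
    ((FibCat.fpFst F G).toFunctor.map_injective (show (FibCat.fpFst F G).map u = (FibCat.fpFst F G).map u' from rfl))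

theorem isFibSetoid_of_fp (hX : Stk.IsPrestack J 𝒳) (hY : FibCat.IsFibGrpd 𝒴.p)
    (hF : ∀ y : 𝒴.obj, ∃ R ∈ J (𝒴.p.obj y), ∀ ⦃V : C⦄ (f : V ⟶ 𝒴.p.obj y), R f →
      ∃ (x : 𝒵.obj) (φ : F.obj x ⟶ y), 𝒴.p.IsHomLift f φ)
    [F.toFunctor.Full] (h : FibCat.IsFibSetoid (FibCat.fp F G).p) : FibCat.IsFibSetoid 𝒳.p := by
  refine ⟨hX.1, fun U a b => ⟨fun f g => Subtype.ext ?_⟩⟩
  refine vert_eq_of_cover J F G hX hY hF (isVert_of_isHomLift f.2) (isVert_of_isHomLift g.2)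
    fun x a' b' i c c' l n hi hc hc' _ _ => ?_
  have := hc.isIso hX.1
  let A : (FibCat.fp F G).obj := fpMk x a' i hi
  let B : (FibCat.fp F G).obj := fpMk x b' (i ≪≫ asIso (G.map c)) (hi.comp (isVert_map hc))
  let m : x ⟶ x := F.toFunctor.preimage (i.hom ≫ G.map c' ≫ (i ≪≫ asIso (G.map c)).inv)
  have hm : IsVert 𝒵.p m := by
    apply isVert_of_map (F := F)
    rw [F.toFunctor.map_preimage]
    exact hi.comp ((isVert_map hc').comp (IsVert.inv (φ := i ≪≫ asIso (G.map c)) (hi.comp (isVert_map hc))))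
  let u : A ⟶ B := fpHom (𝟙 x) c (by simp [A, B, fpMk])
  let u' : A ⟶ B := fpHom m c' (by simp [A, B, fpMk, m])
  have := (h.2 ((FibCat.fp F G).p.obj A) ⟨A, rfl⟩ ⟨B, rfl⟩).elim
    ⟨u, ((isVert_fp_iff u).2 (isVert_id x)).isHomLift rfl⟩
    ⟨u', ((isVert_fp_iff u').2 hm).isHomLift rfl⟩
  exact congrArg (fun t => t.hom.snd) (congrArg Subtype.val this)

end Local

section FullSub

/-- The inclusion of a full subcategory as a functor over `C`. -/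
def subInclB (Q : ObjectProperty 𝒳.obj) : BasedCategory.ofFunctor (Q.ι ⋙ 𝒳.p) ⥤ᵇ 𝒳 where
  toFunctor := Q.ι
  w := rfl

theorem isFibGrpd_of_fullyFaithful (hY : FibCat.IsFibGrpd 𝒴.p) (F : 𝒳 ⥤ᵇ 𝒴) [F.toFunctor.Full]
    [F.toFunctor.Faithful]
    (h : ∀ ⦃y : 𝒴.obj⦄ ⦃x : 𝒳.obj⦄, (y ⟶ F.obj x) → ∃ (x' : 𝒳.obj) (e : F.obj x' ≅ y), IsVert 𝒴.p e.hom) :
    FibCat.IsFibGrpd 𝒳.p := by
  refine isFibGrpd_mk (fun {x V} f => ?_) (fun {z y x} φ ψ g hg => ?_)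
  · obtain ⟨y, l, hy, hl⟩ := exists_lift' hY (x := F.obj x) (f ≫ eqToHom (F.w_obj x).symm)
    obtain ⟨x', e, he⟩ := h l
    have hh := map_map F (F.toFunctor.preimage (e.hom ≫ l))
    simp [he.map_eq, hl] at hh
    refine ⟨x', F.toFunctor.preimage (e.hom ≫ l), ((F.w_obj x').symm.trans he.obj_eq).trans hy, ?_⟩
    rw [← cancel_epi (eqToHom (F.w_obj x')), ← cancel_mono (eqToHom (F.w_obj x).symm)]
    simp only [Category.assoc]
    rw [← hh]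
    simp
  · have hg' : (eqToHom (F.w_obj z) ≫ g ≫ eqToHom (F.w_obj y).symm) ≫ 𝒴.p.map (F.map φ)
        = 𝒴.p.map (F.map ψ) := by simp [map_map, reassoc_of% hg]
    let c := F.toFunctor.preimage (factor hY (F.map φ) (F.map ψ) _ hg')
    have hc : F.map c = factor hY (F.map φ) (F.map ψ) _ hg' := F.toFunctor.map_preimage _
    have hcp : 𝒳.p.map c = g := by
      have := map_map F c
      rw [hc, factor_map] at this
      exact ((cancel_mono (eqToHom (F.w_obj y).symm)).1 ((cancel_epi (eqToHom (F.w_obj z))).1 this)).symm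
    refine ⟨c, ⟨hcp, F.toFunctor.map_injective (by rw [Functor.map_comp, hc, factor_comp])⟩, ?_⟩
    rintro χ ⟨h1, h2⟩
    apply F.toFunctor.map_injective
    apply hom_eq_of_comp_eq hY (F.map φ)
    · rw [map_map, map_map, h1, hcp]
    · rw [hc, factor_comp, ← Functor.map_comp, h2]

theorem isStackFor_of_fullyFaithful {U : C} (R : Sieve U) (F : 𝒳 ⥤ᵇ 𝒴) [F.toFunctor.Full]
    [F.toFunctor.Faithful] (hY : Stk.IsStackFor R 𝒴)
    (h : ∀ G : FibCat.overCat U ⥤ᵇ 𝒴,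
      (∀ a : (Stk.sieveCat R).obj, ∃ (x : 𝒳.obj) (φ : F.obj x ≅ G.obj ((Stk.sieveIncl R).obj a)), IsVert 𝒴.p φ.hom) →
      ∀ g, ∃ (x : 𝒳.obj) (φ : F.obj x ≅ G.obj g), IsVert 𝒴.p φ.hom) :
    Stk.IsStackFor R 𝒳 := by
  obtain ⟨h1, h2⟩ := isPrestackFor_of_fullyFaithful R F (IsStackFor.isPrestackFor hY)
  obtain ⟨f1, f2⟩ := postF_fullyFaithful (𝒜 := Stk.sieveCat R) F
  have : (Stk.resSieve R 𝒴).IsEquivalence := hY
  have : (Stk.resSieve R 𝒳).EssSurj := ⟨fun H => by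
    let e := (Stk.resSieve R 𝒴).objObjPreimageIso (BasedFunctor.comp H F)
    obtain ⟨K, ⟨eK⟩⟩ := exists_lift_through F ((Stk.resSieve R 𝒴).objPreimage (BasedFunctor.comp H F))
      (h _ fun a => ⟨H.obj a, (isoApp e a).symm, (isVert_isoApp e a).inv⟩)
    exact ⟨K, ⟨(postF _ F).preimageIso ((whiskerLeftIso (Stk.sieveIncl R) eK).trans e)⟩⟩⟩
  exact { }

theorem isStack_fullSub (J : GrothendieckTopology C) (hX : Stk.IsStack J 𝒳) (Q : ObjectProperty 𝒳.obj)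
    (h1 : ∀ ⦃y x : 𝒳.obj⦄ (_ : y ⟶ x), Q x → ∃ (y' : 𝒳.obj) (e : y ≅ y'), Q y' ∧ IsVert 𝒳.p e.hom)
    (h3 : ∀ ⦃U : C⦄ (R : Sieve U), R ∈ J U → ∀ (x : 𝒳.obj), 𝒳.p.obj x = U →
      (∀ ⦃V : C⦄ (f : V ⟶ U), R f → ∀ (y : 𝒳.obj) (φ : y ⟶ x), 𝒳.p.IsHomLift f φ →
        ∃ (y' : 𝒳.obj) (e : y ≅ y'), Q y' ∧ 𝒳.p.IsHomLift (𝟙 V) e.hom) →
      ∃ (x' : 𝒳.obj) (e : x ≅ x'), Q x' ∧ IsVert 𝒳.p e.hom) :
    Stk.IsStack J (BasedCategory.ofFunctor (Q.ι ⋙ 𝒳.p)) := by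
  let I := subInclB (𝒳 := 𝒳) Q
  have : I.toFunctor.Full := inferInstanceAs Q.ι.Full
  have : I.toFunctor.Faithful := inferInstanceAs Q.ι.Faithful
  refine ⟨isFibGrpd_of_fullyFaithful hX.1 I fun y x l => ?_,
    fun U R hR => isStackFor_of_fullyFaithful R I (hX.2 R hR) fun G hG g => ?_⟩
  · obtain ⟨y', e, hQ, he⟩ := h1 l x.property
    exact ⟨⟨y', hQ⟩, e.symm, he.inv⟩
  · obtain ⟨x', e, hQ, he⟩ := h3 R hR (G.obj (idObj U)) (G.w_obj _) fun V f hf y φ hφ => by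
      obtain ⟨hy, hy', hp⟩ := (isHomLift_iff_eqToHom _ _).1 hφ
      let a : (Stk.sieveCat R).obj := ⟨Over.mk f, hf⟩
      obtain ⟨x, ψ, hψ⟩ := hG a
      obtain ⟨i, hi, -⟩ := exists_vert_iso_of_lifts hX.1 φ (G.map (toId ((Stk.sieveIncl R).obj a)))
        (hy.trans (G.w_obj ((Stk.sieveIncl R).obj a)).symm) (by
          rw [hp, map_map]
          simp
          rfl)
      exact ⟨I.obj x, i ≪≫ ψ.symm, x.property, (hi.comp hψ.inv).isHomLift hy⟩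
    obtain ⟨y', e', hQ', he'⟩ := h1 (G.map (toId g) ≫ e.hom) hQ
    exact ⟨⟨y', hQ'⟩, e'.symm, he'.inv⟩

end FullSub

end Groth.StkBase
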