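import Groth.Agent.StkBase.Stack
import Mathlib.CategoryTheory.Sites.IsSheafFor

/-!
# Categories over `C` attached to presheaves: functors, equivalences, fibre products
-/

set_option autoImplicit false
set_option backward.isDefEq.respectTransparency false
set_option backward.isDefEq.respectTransparency.types false

universe w v₂ u₂ v u

open CategoryTheory CategoryTheory.Limits Opposite

namespace Groth.StkBase

variable {C : Type u} [Category.{v} C] {P Q R : Cᵒᵖ ⥤ Type w}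

theorem map_op_comp (P : Cᵒᵖ ⥤ Type w) {a b c : C} (f : a ⟶ b) (g : b ⟶ c) (x : P.obj (op c)) :
    P.map f.op (P.map g.op x) = P.map (f ≫ g).op x := by
  rw [op_comp, Functor.map_comp_apply]

theorem map_op_id (P : Cᵒᵖ ⥤ Type w) {a : C} (f : a ⟶ a) (h : f = 𝟙 a) (x : P.obj (op a)) :
    P.map f.op x = x := by
  subst h; simp

/-- Constructor for morphisms of `Stk.ofPsh P`. -/
def eltHom {a b : (Stk.ofPsh P).obj} (f : a.base ⟶ b.base) (h : P.map f.op b.sec = a.sec) : a ⟶ b :=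
  ⟨f, h⟩

theorem elt_hom_ext_p {a b : (Stk.ofPsh P).obj} {f g : a ⟶ b}
    (h : (Stk.ofPsh P).p.map f = (Stk.ofPsh P).p.map g) : f = g :=
  Stk.EltObj.hom_ext h

theorem isFibSetoid_ofPsh (P : Cᵒᵖ ⥤ Type w) : FibCat.IsFibSetoid (Stk.ofPsh P).p := by
  refine ⟨Stk.isFibGrpd_ofPsh P, fun U a b => ⟨fun f g => Subtype.ext (elt_hom_ext_p ?_)⟩⟩
  exact (isVert_of_isHomLift f.2).map_eq.trans (isVert_of_isHomLift g.2).map_eq.symm

theorem natTrans_into_ofPsh_ext {𝒳 : BasedCategory.{v₂, u₂} C} {F G : 𝒳 ⥤ᵇ Stk.ofPsh P} (α β : F ⟶ G) :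
    α = β :=
  natTrans_ext fun a => elt_hom_ext_p ((isVert_app α a).map_eq.trans (isVert_app β a).map_eq.symm)

/-- The section of `P` over the base of an object, read off a functor over `C` into `Stk.ofPsh P`. -/
def secOf {𝒳 : BasedCategory.{v₂, u₂} C} (Φ : 𝒳 ⥤ᵇ Stk.ofPsh P) (a : 𝒳.obj) :
    P.obj (op (𝒳.p.obj a)) :=
  P.map (eqToHom (Φ.w_obj a).symm).op (Φ.obj a).sec

theorem secOf_map {𝒳 : BasedCategory.{v₂, u₂} C} (Φ : 𝒳 ⥤ᵇ Stk.ofPsh P) {a b : 𝒳.obj} (f : a ⟶ b) :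
    P.map (𝒳.p.map f).op (secOf Φ b) = secOf Φ a := by
  have h := (Φ.map f).map_sec
  have e : (Φ.map f).hom = eqToHom (Φ.w_obj a) ≫ 𝒳.p.map f ≫ eqToHom (Φ.w_obj b).symm := map_map Φ f
  rw [e] at h
  rw [secOf, secOf, ← h]
  refine (map_op_comp P _ _ _).trans (Eq.trans ?_ (map_op_comp P _ _ _).symm)
  refine congrArg (fun (t : 𝒳.p.obj a ⟶ (Φ.obj b).base) => P.map t.op (Φ.obj b).sec) ?_
  simp only [← Category.assoc]
  erw [eqToHom_trans, eqToHom_refl, Category.id_comp]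

theorem secOf_eq_of_iso {𝒳 : BasedCategory.{v₂, u₂} C} {Φ Ψ : 𝒳 ⥤ᵇ Stk.ofPsh P} (e : Φ ≅ Ψ)
    (a : 𝒳.obj) : secOf Φ a = secOf Ψ a := by
  have h := (isoApp e a).hom.map_sec
  have e' : (isoApp e a).hom.hom = eqToHom (isVert_isoApp e a).obj_eq := (isVert_isoApp e a).map_eq
  rw [e'] at h
  rw [secOf, secOf, ← h]
  refine (map_op_comp P _ _ _).trans ?_
  refine congrArg (fun t => P.map t.op (Ψ.obj a).sec) (?_ : _ = eqToHom (Ψ.w_obj a).symm)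
  exact eqToHom_trans (Φ.w_obj a).symm _

/-- The map of presheaves determined by a functor over `C`. -/
def pshMapOf (Φ : Stk.ofPsh P ⥤ᵇ Stk.ofPsh Q) : P ⟶ Q where
  app T := ↾fun x => secOf Φ (⟨T.unop, x⟩ : Stk.EltObj P)
  naturality T T' g := by
    ext x
    exact (secOf_map Φ (eltHom (a := ⟨T'.unop, P.map g x⟩) (b := ⟨T.unop, x⟩) g.unop rfl)).symm

theorem pshMapOf_ofPshMap (φ : P ⟶ Q) : pshMapOf (Stk.ofPshMap φ) = φ := by
  ext T x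
  simp [pshMapOf, secOf, Stk.ofPshMap]

theorem pshMapOf_eq_of_iso {Φ Ψ : Stk.ofPsh P ⥤ᵇ Stk.ofPsh Q} (e : Φ ≅ Ψ) :
    pshMapOf Φ = pshMapOf Ψ := by
  ext T x
  exact secOf_eq_of_iso e _

theorem nonempty_iso_pshMapOf (Φ : Stk.ofPsh P ⥤ᵇ Stk.ofPsh Q) :
    Nonempty (Φ ≅ Stk.ofPshMap (pshMapOf Φ)) := by
  refine ⟨isoMk (fun a => ?_) (fun f => elt_hom_ext_p ?_) (fun a => ?_)⟩
  · exact
      { hom := eltHom (eqToHom (Φ.w_obj a)) (by
          show Q.map _ (Q.map _ _) = _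
          refine (map_op_comp Q _ _ _).trans (map_op_id Q _ ?_ _)
          exact eqToHom_trans _ _)
        inv := eltHom (eqToHom (Φ.w_obj a).symm) rfl
        hom_inv_id := elt_hom_ext_p (eqToHom_trans (Φ.w_obj a) (Φ.w_obj a).symm)
        inv_hom_id := elt_hom_ext_p (eqToHom_trans (Φ.w_obj a).symm (Φ.w_obj a)) }
  · rename_i x y
    rw [Functor.map_comp, Functor.map_comp, map_map, map_map]
    simp [eltHom]
  · exact ⟨Φ.w_obj a, rfl⟩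

theorem ofPshMap_comp (φ : P ⟶ Q) (ψ : Q ⟶ R) :
    Stk.ofPshMap (φ ≫ ψ) = BasedFunctor.comp (Stk.ofPshMap φ) (Stk.ofPshMap ψ) := rfl

theorem ofPshMap_id (P : Cᵒᵖ ⥤ Type w) : Stk.ofPshMap (𝟙 P) = BasedFunctor.id (Stk.ofPsh P) := rfl

theorem pshMapOf_comp (Φ : Stk.ofPsh P ⥤ᵇ Stk.ofPsh Q) (Ψ : Stk.ofPsh Q ⥤ᵇ Stk.ofPsh R) :
    pshMapOf (BasedFunctor.comp Φ Ψ) = pshMapOf Φ ≫ pshMapOf Ψ := by
  obtain ⟨e⟩ := nonempty_iso_pshMapOf Φ
  obtain ⟨e'⟩ := nonempty_iso_pshMapOf Ψ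
  rw [← pshMapOf_ofPshMap (pshMapOf Φ ≫ pshMapOf Ψ), ofPshMap_comp]
  exact pshMapOf_eq_of_iso ((whiskerRightIso e Ψ).trans (whiskerLeftIso _ e'))

theorem isIso_pshMapOf {Φ : Stk.ofPsh P ⥤ᵇ Stk.ofPsh Q} (h : FibCat.IsEquivOver Φ) :
    IsIso (pshMapOf Φ) := by
  obtain ⟨G, ⟨a⟩, ⟨b⟩⟩ := h
  refine ⟨pshMapOf G, ?_, ?_⟩
  · rw [← pshMapOf_comp, pshMapOf_eq_of_iso a, ← ofPshMap_id, pshMapOf_ofPshMap]
  · rw [← pshMapOf_comp, pshMapOf_eq_of_iso b, ← ofPshMap_id, pshMapOf_ofPshMap]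

theorem isEquivOver_ofPshMap (φ : P ⟶ Q) [IsIso φ] : FibCat.IsEquivOver (Stk.ofPshMap φ) :=
  ⟨Stk.ofPshMap (inv φ),
    ⟨eqToIso (by rw [← ofPshMap_comp, IsIso.hom_inv_id, ofPshMap_id])⟩,
    ⟨eqToIso (by rw [← ofPshMap_comp, IsIso.inv_hom_id, ofPshMap_id])⟩⟩

end Groth.StkBase
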