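import Groth.Agent.StkBase.StackMisc
import Groth.Agent.StkBase.Psh
import Mathlib.CategoryTheory.Sites.SheafOfTypes

/-!
# Gluing along sieves: morphisms, full subcategories, presheaves
-/

set_option autoImplicit false
set_option backward.isDefEq.respectTransparency false
set_option backward.isDefEq.respectTransparency.types false

universe w v₅ u₅ v₄ u₄ v₃ u₃ v₂ u₂ v u

open CategoryTheory CategoryTheory.Limits Opposite

namespace Groth.StkBase

variable {C : Type u} [Category.{v} C]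
variable {𝒳 : BasedCategory.{v₂, u₂} C} {𝒴 : BasedCategory.{v₃, u₃} C} {𝒜 : BasedCategory.{v₄, u₄} C}

theorem overPostMap_iso {U V W : C} (g : W ⟶ V) (h : V ⟶ U) :
    Nonempty (BasedFunctor.comp (overPostMap g) (overPostMap h) ≅ overPostMap (g ≫ h)) :=
  ⟨isoMk (fun a => Over.isoMk (Iso.refl _) (by
      show 𝟙 _ ≫ a.hom ≫ g ≫ h = (a.hom ≫ g) ≫ h
      rw [Category.id_comp, Category.assoc]))
    (fun φ => Over.OverMorphism.ext (by
      show φ.left ≫ 𝟙 _ = 𝟙 _ ≫ φ.left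
      rw [Category.comp_id, Category.id_comp]))
    (fun a => ⟨rfl, rfl⟩)⟩

theorem vert_hom_ext_of_local (hX : FibCat.IsFibGrpd 𝒳.p) {a b : 𝒳.obj} (R : Sieve (𝒳.p.obj a))
    (hR : (Stk.resSieve R 𝒳).Faithful) {χ χ' : a ⟶ b} (h : IsVert 𝒳.p χ) (h' : IsVert 𝒳.p χ')
    (hl : ∀ ⦃a' : 𝒳.obj⦄ (l : a' ⟶ a), R (𝒳.p.map l) → l ≫ χ = l ≫ χ') : χ = χ' := by
  obtain ⟨ia, hia⟩ := overFunctor_eval hX a rfl
  obtain ⟨ib, hib⟩ := overFunctor_eval hX b h.obj_eq.symm
  let Ga := overFunctor hX a rfl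
  let Gb := overFunctor hX b h.obj_eq.symm
  obtain ⟨α, hα⟩ := exists_natTrans_of_eval hX Ga Gb (ia.hom ≫ χ ≫ ib.inv)
    (hia.comp (h.comp hib.inv))
  obtain ⟨α', hα'⟩ := exists_natTrans_of_eval hX Ga Gb (ia.hom ≫ χ' ≫ ib.inv)
    (hia.comp (h'.comp hib.inv))
  have : α = α' := by
    apply (Stk.resSieve R 𝒳).map_injective
    apply natTrans_ext
    intro x
    rw [resSieve_map_app, resSieve_map_app]
    apply hom_eq_of_comp_eq hX (Gb.map (toId ((Stk.sieveIncl R).obj x)))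
    · rw [(isVert_app α _).map_eq, (isVert_app α' _).map_eq]
    · rw [← α.toNatTrans.naturality, ← α'.toNatTrans.naturality, hα, hα']
      simp only [← Category.assoc]
      congr 1
      apply hl
      rw [Functor.map_comp, map_map, hia.map_eq, overCat_map]
      simp only [Category.assoc, eqToHom_trans]
      have hx := x.property
      convert R.downward_closed hx (eqToHom ?_) using 1
      · simp
        rfl

  rw [this] at hα
  exact (cancel_mono ib.inv).1 ((cancel_epi ia.hom).1 (hα.symm.trans hα'))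

/-- The lift of a functor through a fully faithful functor along chosen vertical preimages. -/
noncomputable def liftThrough (F : 𝒳 ⥤ᵇ 𝒴) [F.toFunctor.Full] [F.toFunctor.Faithful] (H : 𝒜 ⥤ᵇ 𝒴)
    (x : 𝒜.obj → 𝒳.obj) (φ : ∀ y, F.obj (x y) ≅ H.obj y) (hφ : ∀ y, IsVert 𝒴.p (φ y).hom) :
    𝒜 ⥤ᵇ 𝒳 where
  toFunctor :=
    { obj := x
      map := fun {y y'} f => F.toFunctor.preimage ((φ y).hom ≫ H.map f ≫ (φ y').inv)
      map_id := fun y => F.toFunctor.map_injective (by simp)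
      map_comp := fun f g => F.toFunctor.map_injective (by simp) }
  w := CategoryTheory.Functor.ext (fun y => (F.w_obj (x y)).symm.trans ((hφ y).obj_eq.trans (H.w_obj y)))
    (fun y y' f => by
      have h := map_map F (F.toFunctor.preimage ((φ y).hom ≫ H.map f ≫ (φ y').inv))
      simp [(hφ y).map_eq, (hφ y').inv.map_eq, map_map] at h
      simp only [Functor.comp_map]
      rw [← cancel_epi (eqToHom (F.w_obj (x y))),
        ← cancel_mono (eqToHom (F.w_obj (x y')).symm)]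
      simpa using h.symm)

theorem exists_lift_through (F : 𝒳 ⥤ᵇ 𝒴) [F.toFunctor.Full] [F.toFunctor.Faithful] (H : 𝒜 ⥤ᵇ 𝒴)
    (h : ∀ a, ∃ (x : 𝒳.obj) (φ : F.obj x ≅ H.obj a), IsVert 𝒴.p φ.hom) :
    ∃ K : 𝒜 ⥤ᵇ 𝒳, Nonempty (BasedFunctor.comp K F ≅ H) := by
  choose x φ hφ using h
  exact ⟨liftThrough F H x φ hφ, ⟨isoMk φ (fun f => by simp [liftThrough]) hφ⟩⟩

theorem isPrestackFor_of_fullyFaithful {U : C} (R : Sieve U) (F : 𝒳 ⥤ᵇ 𝒴) [F.toFunctor.Full]
    [F.toFunctor.Faithful] (h : Stk.IsPrestackFor R 𝒴) : Stk.IsPrestackFor R 𝒳 := by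
  obtain ⟨h1, h2⟩ := h
  obtain ⟨h3, h4⟩ := postF_fullyFaithful (𝒜 := Stk.sieveCat R) F
  obtain ⟨h5, h6⟩ := postF_fullyFaithful (𝒜 := FibCat.overCat U) F
  have e := resSieve_comp_postF R F
  have f1 : (Stk.resSieve R 𝒳 ⋙ postF _ F).Full := e ▸ (inferInstance : (postF _ F ⋙ Stk.resSieve R 𝒴).Full)
  have f2 : (Stk.resSieve R 𝒳 ⋙ postF _ F).Faithful :=
    e ▸ (inferInstance : (postF _ F ⋙ Stk.resSieve R 𝒴).Faithful)
  exact ⟨Functor.Full.of_comp_faithful (Stk.resSieve R 𝒳) (postF _ F),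
    Functor.Faithful.of_comp (Stk.resSieve R 𝒳) (postF _ F)⟩

section Psh

variable (P : Cᵒᵖ ⥤ Type w)

/-- The functor `C/U ⟶ ofPsh P` of a section. -/
def sectionFunctor {U : C} (s : P.obj (op U)) : FibCat.overCat U ⥤ᵇ Stk.ofPsh P where
  toFunctor :=
    { obj := fun g => (⟨g.left, P.map g.hom.op s⟩ : Stk.EltObj P)
      map := fun {g g'} a => (⟨a.left, by
        show P.map _ (P.map _ _) = _
        rw [map_op_comp, Over.w a]
        ⟩ : Stk.EltObj.Hom _ _) }
  w := rfl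

theorem nonempty_iso_of_secOf {𝒵 : BasedCategory.{v₅, u₅} C} {Φ Ψ : 𝒵 ⥤ᵇ Stk.ofPsh P}
    (h : ∀ a, secOf Φ a = secOf Ψ a) : Nonempty (Φ ≅ Ψ) := by
  have key : ∀ {A B : 𝒵 ⥤ᵇ Stk.ofPsh P}, (∀ a, secOf A a = secOf B a) → ∀ a,
      P.map (eqToHom ((A.w_obj a).trans (B.w_obj a).symm)).op (B.obj a).sec = (A.obj a).sec := by
    intro A B hAB a
    have h' := congrArg (P.map (eqToHom (A.w_obj a)).op) (hAB a).symm
    unfold secOf at h'
    rw [map_op_comp, map_op_comp] at h'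
    refine Eq.trans ?_ (h'.trans (map_op_id P _ (eqToHom_trans _ _) _))
    refine congrArg (fun (t : (A.obj a).base ⟶ (B.obj a).base) => P.map t.op (B.obj a).sec) ?_
    exact (eqToHom_trans _ _).symm
  let c : ∀ a, Φ.obj a ≅ Ψ.obj a := fun a =>
    { hom := eltHom (eqToHom ((Φ.w_obj a).trans (Ψ.w_obj a).symm)) (key h a)
      inv := eltHom (eqToHom ((Ψ.w_obj a).trans (Φ.w_obj a).symm)) (key (fun a => (h a).symm) a)
      hom_inv_id := elt_hom_ext_p (eqToHom_trans ((Φ.w_obj a).trans (Ψ.w_obj a).symm) ((Ψ.w_obj a).trans (Φ.w_obj a).symm))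
      inv_hom_id := elt_hom_ext_p (eqToHom_trans ((Ψ.w_obj a).trans (Φ.w_obj a).symm) ((Φ.w_obj a).trans (Ψ.w_obj a).symm)) }
  refine ⟨isoMk c (fun {x y} f => elt_hom_ext_p ?_) (fun a => ⟨(Φ.w_obj a).trans (Ψ.w_obj a).symm, rfl⟩)⟩
  rw [Functor.map_comp, Functor.map_comp, map_map, map_map]
  simp [c, eltHom]



theorem secOf_sectionFunctor {U : C} (s : P.obj (op U)) (g : (FibCat.overCat U).obj) :
    secOf (sectionFunctor P s) g = P.map g.hom.op s :=
  map_op_id P _ rfl _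

/-- The functor `sieveCat R ⟶ ofPsh P` of a compatible family. -/
def familyFunctor {U : C} {R : Sieve U} (x : Presieve.FamilyOfElements P R.arrows)
    (hx : x.Compatible) : Stk.sieveCat R ⥤ᵇ Stk.ofPsh P where
  toFunctor :=
    { obj := fun a => (⟨a.obj.left, x a.obj.hom a.property⟩ : Stk.EltObj P)
      map := fun {a b} f => (⟨f.hom.left, by
        have := (Presieve.compatible_iff_sieveCompatible x).1 hx b.obj.hom f.hom.left b.property
        show P.map f.hom.left.op (x b.obj.hom b.property) = x a.obj.hom a.property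
        rw [← this]
        congr 1
        exact Over.w f.hom⟩ : Stk.EltObj.Hom _ _) }
  w := rfl

theorem secOf_familyFunctor {U : C} {R : Sieve U} (x : Presieve.FamilyOfElements P R.arrows)
    (hx : x.Compatible) (a : (Stk.sieveCat R).obj) :
    secOf (familyFunctor P x hx) a = x a.obj.hom a.property :=
  map_op_id P _ rfl _

/-- The family of sections of a functor `sieveCat R ⟶ ofPsh P`. -/
def familyOf {U : C} {R : Sieve U} (H : Stk.sieveCat R ⥤ᵇ Stk.ofPsh P) :
    Presieve.FamilyOfElements P R.arrows :=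
  fun _ f hf => secOf H (⟨Over.mk f, hf⟩ : (Stk.sieveCat R).obj)

theorem familyOf_compatible {U : C} {R : Sieve U} (H : Stk.sieveCat R ⥤ᵇ Stk.ofPsh P) :
    (familyOf P H).Compatible := by
  rw [Presieve.compatible_iff_sieveCompatible]
  intro Y Z f g hf
  exact (secOf_map H (a := (⟨Over.mk (g ≫ f), R.downward_closed hf g⟩ : (Stk.sieveCat R).obj))
    (b := (⟨Over.mk f, hf⟩ : (Stk.sieveCat R).obj))
    (ObjectProperty.homMk (Over.homMk g rfl))).symm

theorem secOf_over {U : C} (G : FibCat.overCat U ⥤ᵇ Stk.ofPsh P) (g : (FibCat.overCat U).obj) :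
    secOf G g = P.map g.hom.op (secOf G (idObj U)) :=
  (secOf_map G (toId g)).symm

theorem isPrestackFor_ofPsh_iff {U : C} (R : Sieve U) :
    Stk.IsPrestackFor R (Stk.ofPsh P) ↔ Presieve.IsSeparatedFor P R.arrows := by
  constructor
  · rintro ⟨h1, -⟩ x t₁ t₂ ht₁ ht₂
    obtain ⟨e⟩ := nonempty_iso_of_secOf P
      (Φ := (Stk.resSieve R (Stk.ofPsh P)).obj (sectionFunctor P t₁))
      (Ψ := (Stk.resSieve R (Stk.ofPsh P)).obj (sectionFunctor P t₂)) (fun a =>
        ((secOf_sectionFunctor P t₁ ((Stk.sieveIncl R).obj a)).trans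
          ((ht₁ a.obj.hom a.property).trans (ht₂ a.obj.hom a.property).symm)).trans
          (secOf_sectionFunctor P t₂ ((Stk.sieveIncl R).obj a)).symm)
    obtain ⟨α, -⟩ := h1.map_surjective e.hom
    have := natTrans_isIso (Stk.isFibGrpd_ofPsh P) α
    have h := secOf_eq_of_iso (asIso α) (idObj U)
    rw [secOf_sectionFunctor, secOf_sectionFunctor] at h
    simpa using h
  · intro h
    refine ⟨⟨fun {G G'} γ => ?_⟩, ⟨fun _ => natTrans_into_ofPsh_ext _ _⟩⟩
    have := natTrans_isIso (Stk.isFibGrpd_ofPsh P) γ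
    have e : secOf G (idObj U) = secOf G' (idObj U) := by
      refine h (fun V f hf => secOf G (Over.mk f)) _ _ (fun V f hf => (secOf_over P G (Over.mk f)).symm)
        (fun V f hf => ?_)
      refine (secOf_over P G' (Over.mk f)).symm.trans ?_
      exact (secOf_eq_of_iso (asIso γ) (⟨Over.mk f, hf⟩ : (Stk.sieveCat R).obj)).symm
    obtain ⟨i⟩ := nonempty_iso_of_secOf P (Φ := G) (Ψ := G') (fun g => by
      rw [secOf_over P G g, secOf_over P G' g, e])
    exact ⟨i.hom, natTrans_into_ofPsh_ext _ _⟩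

theorem isStackFor_ofPsh_iff {U : C} (R : Sieve U) :
    Stk.IsStackFor R (Stk.ofPsh P) ↔ Presieve.IsSheafFor P R.arrows := by
  rw [← Presieve.isSeparatedFor_and_exists_isAmalgamation_iff_isSheafFor]
  constructor
  · intro h
    refine ⟨(isPrestackFor_ofPsh_iff P R).1 (IsStackFor.isPrestackFor h), fun x hx => ?_⟩
    have : (Stk.resSieve R (Stk.ofPsh P)).IsEquivalence := h
    let G := (Stk.resSieve R (Stk.ofPsh P)).objPreimage (familyFunctor P x hx)
    refine ⟨secOf G (idObj U), fun V f hf => ?_⟩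
    refine (secOf_over P G (Over.mk f)).symm.trans ?_
    exact (secOf_eq_of_iso ((Stk.resSieve R (Stk.ofPsh P)).objObjPreimageIso (familyFunctor P x hx))
      (⟨Over.mk f, hf⟩ : (Stk.sieveCat R).obj)).trans (secOf_familyFunctor P x hx _)
  · rintro ⟨h1, h2⟩
    obtain ⟨h3, h4⟩ := (isPrestackFor_ofPsh_iff P R).2 h1
    have : (Stk.resSieve R (Stk.ofPsh P)).EssSurj := ⟨fun H => by
      obtain ⟨s, hs⟩ := h2 (familyOf P H) (familyOf_compatible P H)
      exact ⟨sectionFunctor P s, nonempty_iso_of_secOf P fun a =>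
        (secOf_sectionFunctor P s ((Stk.sieveIncl R).obj a)).trans (hs a.obj.hom a.property)⟩⟩
    exact { }

theorem isStack_ofPsh_iff (J : GrothendieckTopology C) :
    Stk.IsStack J (Stk.ofPsh P) ↔ Presieve.IsSheaf J P :=
  ⟨fun h _ R hR => (isStackFor_ofPsh_iff P R).1 (h.2 R hR),
    fun h => ⟨Stk.isFibGrpd_ofPsh P, fun _ R hR => (isStackFor_ofPsh_iff P R).2 (h R hR)⟩⟩

/-- The category of a representable presheaf is the slice. -/
theorem exists_yoneda_equiv_overCat (U : C) :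
    ∃ e : Stk.ofPsh (yoneda.obj U) ⥤ᵇ FibCat.overCat U, FibCat.IsEquivOver e := by
  let e : Stk.ofPsh (yoneda.obj U) ⥤ᵇ FibCat.overCat U :=
    { toFunctor :=
        { obj := fun a => Over.mk (show a.base ⟶ U from a.sec)
          map := fun {a b} f => Over.homMk f.hom f.map_sec }
      w := rfl }
  let e' : FibCat.overCat U ⥤ᵇ Stk.ofPsh (yoneda.obj U) :=
    { toFunctor :=
        { obj := fun g => (⟨g.left, g.hom⟩ : Stk.EltObj (yoneda.obj U))
          map := fun {g h} φ => (⟨φ.left, Over.w φ⟩ : Stk.EltObj.Hom _ _) }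
      w := rfl }
  exact ⟨e, e', ⟨Iso.refl _⟩, ⟨Iso.refl _⟩⟩

end Psh

end Groth.StkBase
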