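import Groth.Agent.StkGerb.Glue
import Groth.Agent.StkBase.Descent

/-!
# Restriction between sieves
-/

set_option autoImplicit false
set_option backward.isDefEq.respectTransparency false
set_option backward.isDefEq.respectTransparency.types false

universe v₂ u₂ v u

open CategoryTheory

namespace Groth.StkBase

variable {C : Type u} [Category.{v} C] {𝒳 : BasedCategory.{v₂, u₂} C} {U : C} {S R : Sieve U}

/-- The inclusion of a finer sieve. -/
def sieveLE (h : S ≤ R) : Stk.sieveCat S ⥤ᵇ Stk.sieveCat R where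
  toFunctor :=
    { obj := fun a => ⟨a.obj, h _ a.property⟩
      map := fun f => ObjectProperty.homMk f.hom }
  w := rfl

theorem sieveCat_map_left {a b : (Stk.sieveCat R).obj} (f : a ⟶ b) :
    (Stk.sieveCat R).p.map f = f.hom.left := rfl

theorem resSieve_factor (h : S ≤ R) :
    Stk.resSieve R 𝒳 ⋙ Stk.restr (sieveLE h) 𝒳 = Stk.resSieve S 𝒳 := rfl

section

variable (hX : FibCat.IsFibGrpd 𝒳.p) (hSR : S ≤ R) {H H' : Stk.sieveCat R ⥤ᵇ 𝒳}

include hX in
/-- Values on lifts are compatible. -/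
theorem restr_indep (γ : (Stk.restr (sieveLE hSR) 𝒳).obj H ⟶ (Stk.restr (sieveLE hSR) 𝒳).obj H')
    {x : (Stk.sieveCat R).obj} {a' a'' : 𝒳.obj} (k₀ : a'' ⟶ a')
    {z z₂ : (Stk.sieveCat S).obj} (q : (sieveLE hSR).obj z ⟶ x) (q₂ : (sieveLE hSR).obj z₂ ⟶ x)
    (j : a' ⟶ H.obj ((sieveLE hSR).obj z)) (j₂ : a'' ⟶ H.obj ((sieveLE hSR).obj z₂))
    (hj : IsVert 𝒳.p j) (hj₂ : IsVert 𝒳.p j₂)
    (e : j₂ ≫ H.map q₂ = k₀ ≫ j ≫ H.map q) :
    j₂ ≫ γ.toNatTrans.app z₂ ≫ H'.map q₂ = k₀ ≫ j ≫ γ.toNatTrans.app z ≫ H'.map q := by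
  have e₁ : 𝒳.p.obj a'' = z₂.obj.left := hj₂.obj_eq.trans (H.w_obj _)
  have e₂ : 𝒳.p.obj a' = z.obj.left := hj.obj_eq.trans (H.w_obj _)
  let g : z₂.obj.left ⟶ z.obj.left := eqToHom e₁.symm ≫ 𝒳.p.map k₀ ≫ eqToHom e₂
  have hw : g ≫ q.hom.left = q₂.hom.left := by
    have e' := congrArg 𝒳.p.map e
    simp only [Functor.map_comp, map_map, hj.map_eq, hj₂.map_eq] at e'
    rw [← cancel_epi (eqToHom e₁), ← cancel_mono (eqToHom (H.w_obj x).symm)]
    simp [g] at e' ⊢
    exact e'.symm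
  let t : z₂ ⟶ z := ObjectProperty.homMk (Over.homMk g (by
    have h₁ := Over.w q.hom
    have h₂ := Over.w q₂.hom
    change q.hom.left ≫ x.obj.hom = z.obj.hom at h₁
    change q₂.hom.left ≫ x.obj.hom = z₂.obj.hom at h₂
    rw [← h₁, ← h₂, ← Category.assoc, hw]))
  have ht : (sieveLE hSR).map t ≫ q = q₂ := ObjectProperty.hom_ext _ (Over.OverMorphism.ext hw)
  have hjt : j₂ ≫ H.map ((sieveLE hSR).map t) = k₀ ≫ j := by
    apply hom_eq_of_comp_eq hX (H.map q)
    · simp only [Functor.map_comp, map_map, hj.map_eq, hj₂.map_eq]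
      simp [t, g, sieveLE, sieveCat_map_left]
    · rw [Category.assoc, Category.assoc, ← Functor.map_comp, ht, e]
  calc j₂ ≫ γ.toNatTrans.app z₂ ≫ H'.map q₂
      = j₂ ≫ (γ.toNatTrans.app z₂ ≫ H'.map ((sieveLE hSR).map t)) ≫ H'.map q := by
        rw [Category.assoc, ← Functor.map_comp, ht]
    _ = j₂ ≫ (H.map ((sieveLE hSR).map t) ≫ γ.toNatTrans.app z) ≫ H'.map q := by
        have h := γ.toNatTrans.naturality t
        exact congrArg (fun m => j₂ ≫ m ≫ H'.map q) h.symm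
    _ = _ := by rw [Category.assoc, reassoc_of% hjt]

end

/-- Restriction to a finer sieve is fully faithful when morphisms glue over each member. -/
theorem restr_sieveLE_fullyFaithful (hX : FibCat.IsFibGrpd 𝒳.p) (hSR : S ≤ R)
    (hR : ∀ ⦃V : C⦄ (f : V ⟶ U), R f → Stk.IsPrestackFor (S.pullback f) 𝒳) :
    (Stk.restr (sieveLE hSR) 𝒳).Full ∧ (Stk.restr (sieveLE hSR) 𝒳).Faithful := by
  have hsv : ∀ (H : Stk.sieveCat R ⥤ᵇ 𝒳) (x : (Stk.sieveCat R).obj),
      Stk.IsPrestackFor (S.pullback (eqToHom (H.w_obj x) ≫ x.obj.hom)) 𝒳 := fun H x =>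
    hR _ (R.downward_closed x.property _)
  have hex : ∀ (H : Stk.sieveCat R ⥤ᵇ 𝒳) (x : (Stk.sieveCat R).obj) ⦃a' : 𝒳.obj⦄ (l : a' ⟶ H.obj x),
      S (𝒳.p.map l ≫ eqToHom (H.w_obj x) ≫ x.obj.hom) →
      ∃ (z : (Stk.sieveCat S).obj) (q : (sieveLE hSR).obj z ⟶ x)
        (j : a' ⟶ H.obj ((sieveLE hSR).obj z)), IsVert 𝒳.p j ∧ j ≫ H.map q = l := by
    intro H x a' l hl
    let z : (Stk.sieveCat S).obj := ⟨Over.mk (𝒳.p.map l ≫ eqToHom (H.w_obj x) ≫ x.obj.hom), hl⟩
    let q : (sieveLE hSR).obj z ⟶ x :=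
      ObjectProperty.homMk (Over.homMk (𝒳.p.map l ≫ eqToHom (H.w_obj x)) (Category.assoc _ _ _))
    obtain ⟨i, hi, hi'⟩ := exists_vert_iso_of_lifts hX l (H.map q) (H.w_obj ((sieveLE hSR).obj z)).symm
      (by rw [map_map]; simp [q, sieveLE, z, sieveCat_map_left])
    exact ⟨z, q, i.hom, hi, hi'⟩
  refine ⟨⟨fun {H H'} γ => ?_⟩, ⟨fun {H H'} α β h => natTrans_ext fun x => ?_⟩⟩
  · have hloc : ∀ x : (Stk.sieveCat R).obj, ∃ χ : H.obj x ⟶ H'.obj x, IsVert 𝒳.p χ ∧
        ∀ (z : (Stk.sieveCat S).obj) (q : (sieveLE hSR).obj z ⟶ x),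
          H.map q ≫ χ = γ.toNatTrans.app z ≫ H'.map q := by
      intro x
      choose z q j hj hjq using hex H x
      have hab : 𝒳.p.obj (H.obj x) = 𝒳.p.obj (H'.obj x) := (H.w_obj x).trans (H'.w_obj x).symm
      obtain ⟨χ, hχ, hχ'⟩ := Groth.StkGerb.glue_hom hX hab
        (S.pullback (eqToHom (H.w_obj x) ≫ x.obj.hom)) (hsv H x).1
        (fun a' l hl => j l hl ≫ γ.toNatTrans.app (z l hl) ≫ H'.map (q l hl))
        (fun a' l hl => by
          have e' := congrArg 𝒳.p.map (hjq l hl)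
          simp only [Functor.map_comp, map_map, (hj l hl).map_eq, (isVert_app γ (z l hl)).map_eq] at e' ⊢
          rw [← e']
          simp)
        (fun a' a'' l hl k hkl => (restr_indep hX hSR γ k _ _ _ _ (hj l hl) (hj _ hkl)
          (by rw [hjq _ hkl, hjq l hl])).symm)
      refine ⟨χ, hχ, fun z' q' => ?_⟩
      have hl : S (𝒳.p.map (H.map q') ≫ eqToHom (H.w_obj x) ≫ x.obj.hom) := by
        rw [map_map]
        have := S.downward_closed z'.property (eqToHom (H.w_obj ((sieveLE hSR).obj z')))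
        have hq : q'.hom.left ≫ x.obj.hom = z'.obj.hom := Over.w q'.hom
        have e : (eqToHom (H.w_obj ((sieveLE hSR).obj z')) ≫ (Stk.sieveCat R).p.map q' ≫
            eqToHom (H.w_obj x).symm) ≫ eqToHom (H.w_obj x) ≫ x.obj.hom =
            eqToHom (H.w_obj ((sieveLE hSR).obj z')) ≫ z'.obj.hom := by
          rw [← hq]
          simp [sieveCat_map_left]
        rw [e]
        exact this
      rw [hχ' (H.map q') hl]
      have := restr_indep hX hSR γ (𝟙 _) (q _ hl) q' (j _ hl) (𝟙 (H.obj ((sieveLE hSR).obj z')))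
        (hj _ hl) (isVert_id _) (by rw [Category.id_comp, Category.id_comp, hjq _ hl])
      rw [Category.id_comp, Category.id_comp] at this
      exact this.symm
    choose χ hχ hχ' using hloc
    refine ⟨⟨⟨χ, fun x' x k => ?_⟩, fun x => (hχ x).isHomLift (H.w_obj x)⟩, natTrans_ext fun z => ?_⟩
    · have hp : 𝒳.p.map (H.map k ≫ χ x) = eqToHom ((H.w_obj x').trans (H'.w_obj x').symm) ≫ 𝒳.p.map (H'.map k) := by
        simp [map_map, (hχ x).map_eq]
      let m := factor hX (H'.map k) (H.map k ≫ χ x) _ hp.symm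
      have hm : IsVert 𝒳.p m := ⟨_, factor_map hX _ _ _ hp.symm⟩
      have hmk : m ≫ H'.map k = H.map k ≫ χ x := factor_comp hX _ _ _ hp.symm
      suffices m = χ x' by rw [← this]; exact hmk.symm
      refine vert_hom_ext_of_local hX _ (hsv H x').2 hm (hχ x') fun a' l hl => ?_
      obtain ⟨z, q, j, hj, rfl⟩ := hex H x' l hl
      rw [Category.assoc, Category.assoc, hχ' x' z q]
      congr 1
      apply hom_eq_of_comp_eq hX (H'.map k)
      · simp [map_map, hm.map_eq, (isVert_app γ z).map_eq]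
      · rw [Category.assoc, Category.assoc, hmk, ← Functor.map_comp, ← hχ' x z (q ≫ k),
          Functor.map_comp, Category.assoc]
    · have := hχ' ((sieveLE hSR).obj z) z (𝟙 _)
      rw [H.toFunctor.map_id, H'.toFunctor.map_id] at this
      exact (Category.id_comp _).symm.trans (this.trans (Category.comp_id _))
  · refine vert_hom_ext_of_local hX _ (hsv H x).2 (isVert_app α x) (isVert_app β x) fun a' l hl => ?_
    obtain ⟨z, q, j, hj, rfl⟩ := hex H x l hl
    rw [Category.assoc, Category.assoc, α.toNatTrans.naturality, β.toNatTrans.naturality]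
    have hz : α.toNatTrans.app ((sieveLE hSR).obj z) = β.toNatTrans.app ((sieveLE hSR).obj z) :=
      congrArg (fun t => t.toNatTrans.app z) h
    rw [hz]

/-- Gluing along a finer sieve gives gluing along a coarser one. -/
theorem isStackFor_of_refine (hX : FibCat.IsFibGrpd 𝒳.p) (hSR : S ≤ R) (hS : Stk.IsStackFor S 𝒳)
    (hR : ∀ ⦃V : C⦄ (f : V ⟶ U), R f → Stk.IsPrestackFor (S.pullback f) 𝒳) :
    Stk.IsStackFor R 𝒳 := by
  obtain ⟨hf, hf'⟩ := restr_sieveLE_fullyFaithful hX hSR hR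
  have hE : (Stk.resSieve R 𝒳 ⋙ Stk.restr (sieveLE hSR) 𝒳).IsEquivalence := by
    rw [resSieve_factor]; exact hS
  have : (Stk.resSieve R 𝒳).Faithful := Functor.Faithful.of_comp _ (Stk.restr (sieveLE hSR) 𝒳)
  have : (Stk.resSieve R 𝒳).Full := Functor.Full.of_comp_faithful _ (Stk.restr (sieveLE hSR) 𝒳)
  have : (Stk.resSieve R 𝒳).EssSurj := ⟨fun H => by
    obtain ⟨G, ⟨i⟩⟩ := hE.essSurj.mem_essImage ((Stk.restr (sieveLE hSR) 𝒳).obj H)
    exact ⟨G, ⟨(Stk.restr (sieveLE hSR) 𝒳).preimageIso i⟩⟩⟩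
  exact { }

end Groth.StkBase
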