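import Groth.Agent.StkGerb.Glue
import Groth.Agent.StkBase.Descent
import Groth.Agent.StkBase.SieveRefine

/-!
# The stack condition in terms of objects and morphisms
-/

set_option autoImplicit false
set_option backward.isDefEq.respectTransparency false
set_option backward.isDefEq.respectTransparency.types false

universe v₂ u₂ v u

open CategoryTheory

namespace Groth.StkBase

variable {C : Type u} [Category.{v} C] (𝒳 : BasedCategory.{v₂, u₂} C) {U : C} (R : Sieve U)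

/-- Morphisms over `U` are determined locally on `R`. -/
def HomExt : Prop :=
  ∀ ⦃a b : 𝒳.obj⦄ (ha : 𝒳.p.obj a = U) ⦃χ χ' : a ⟶ b⦄, IsVert 𝒳.p χ → IsVert 𝒳.p χ' →
    (∀ ⦃a' : 𝒳.obj⦄ (l : a' ⟶ a), R (𝒳.p.map l ≫ eqToHom ha) → l ≫ χ = l ≫ χ') → χ = χ'

/-- Compatible local morphisms over `U` glue. -/
def HomGlue : Prop :=
  ∀ ⦃a b : 𝒳.obj⦄ (ha : 𝒳.p.obj a = U) (hb : 𝒳.p.obj b = U)
    (m : ∀ ⦃a' : 𝒳.obj⦄ (l : a' ⟶ a), R (𝒳.p.map l ≫ eqToHom ha) → (a' ⟶ b)),
    (∀ ⦃a' : 𝒳.obj⦄ (l : a' ⟶ a) (hl : R (𝒳.p.map l ≫ eqToHom ha)),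
      𝒳.p.map (m l hl) = 𝒳.p.map l ≫ eqToHom (ha.trans hb.symm)) →
    (∀ ⦃a' a'' : 𝒳.obj⦄ (l : a' ⟶ a) (hl : R (𝒳.p.map l ≫ eqToHom ha)) (k : a'' ⟶ a')
      (hkl : R (𝒳.p.map (k ≫ l) ≫ eqToHom ha)), k ≫ m l hl = m (k ≫ l) hkl) →
    ∃ χ : a ⟶ b, IsVert 𝒳.p χ ∧
      ∀ ⦃a' : 𝒳.obj⦄ (l : a' ⟶ a) (hl : R (𝒳.p.map l ≫ eqToHom ha)), l ≫ χ = m l hl

/-- Objects given on the members of `R` glue: they map compatibly to one object over `U`. -/
def ObjGlue : Prop :=
  ∀ H : Stk.sieveCat R ⥤ᵇ 𝒳, ∃ (a : 𝒳.obj) (ha : 𝒳.p.obj a = U)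
    (c : ∀ z : (Stk.sieveCat R).obj, H.obj z ⟶ a),
      (∀ z, 𝒳.p.map (c z) = eqToHom (H.w_obj z) ≫ z.obj.hom ≫ eqToHom ha.symm) ∧
      ∀ ⦃z z' : (Stk.sieveCat R).obj⦄ (f : z ⟶ z'), H.map f ≫ c z' = c z

variable {𝒳 R}

theorem isPrestackFor_mk (hX : FibCat.IsFibGrpd 𝒳.p) (hext : HomExt 𝒳 R) (hglue : HomGlue 𝒳 R) :
    Stk.IsPrestackFor R 𝒳 := by
  have hex : ∀ (G : FibCat.overCat U ⥤ᵇ 𝒳) ⦃a' : 𝒳.obj⦄ (l : a' ⟶ G.obj (idObj U)),
      R (𝒳.p.map l ≫ eqToHom (G.w_obj (idObj U))) →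
      ∃ (z : (Stk.sieveCat R).obj) (k : a' ⟶ G.obj z.obj),
        IsVert 𝒳.p k ∧ k ≫ G.map (toId z.obj) = l := by
    intro G a' l hl
    let z : (Stk.sieveCat R).obj := ⟨Over.mk (𝒳.p.map l ≫ eqToHom (G.w_obj (idObj U))), hl⟩
    obtain ⟨i, hi, hi'⟩ := exists_vert_iso_of_lifts hX l (G.map (toId z.obj)) (G.w_obj z.obj).symm
      (by rw [map_map]; simp [z, overCat_map, toId])
    exact ⟨z, i.hom, hi, hi'⟩
  refine ⟨⟨fun {G G'} γ => ?_⟩, ⟨fun {G G'} α β h => natTrans_ext_idObj hX ?_⟩⟩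
  · have hind : ∀ ⦃a' : 𝒳.obj⦄ (z z₂ : (Stk.sieveCat R).obj) (k : a' ⟶ G.obj z.obj)
        (k₂ : a' ⟶ G.obj z₂.obj), IsVert 𝒳.p k → IsVert 𝒳.p k₂ →
        k₂ ≫ G.map (toId z₂.obj) = k ≫ G.map (toId z.obj) →
        k₂ ≫ γ.toNatTrans.app z₂ ≫ G'.map (toId z₂.obj) =
          k ≫ γ.toNatTrans.app z ≫ G'.map (toId z.obj) := by
      intro a' z z₂ k k₂ hk hk₂ e
      have e₁ : 𝒳.p.obj a' = z₂.obj.left := hk₂.obj_eq.trans (G.w_obj _)
      have e₂ : 𝒳.p.obj a' = z.obj.left := hk.obj_eq.trans (G.w_obj _)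
      have hw : eqToHom (e₁.symm.trans e₂) ≫ z.obj.hom = z₂.obj.hom := by
        have e' := congrArg 𝒳.p.map e
        simp only [Functor.map_comp, map_map, hk.map_eq, hk₂.map_eq] at e'
        rw [← cancel_epi (eqToHom e₁), ← cancel_mono (eqToHom (G.w_obj (idObj U)).symm)]
        simp [overCat_map, toId] at e' ⊢
        exact e'.symm
      let t : z₂ ⟶ z := ObjectProperty.homMk (Over.homMk (eqToHom (e₁.symm.trans e₂)) hw)
      have hkt : k₂ ≫ G.map t.hom = k := by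
        apply hom_eq_of_comp_eq hX (G.map (toId z.obj))
        · simp [map_map, hk.map_eq, hk₂.map_eq, t, overCat_map]
        · rw [Category.assoc, ← Functor.map_comp, toId_naturality, e]
      rw [← toId_naturality t.hom, Functor.map_comp]
      have hn : γ.toNatTrans.app z₂ ≫ G'.map t.hom = G.map t.hom ≫ γ.toNatTrans.app z :=
        (γ.toNatTrans.naturality t).symm
      rw [reassoc_of% hn, reassoc_of% hkt]
    choose z k hk hkl using hex G
    obtain ⟨χ, hχ, hχ'⟩ := hglue (G.w_obj (idObj U)) (G'.w_obj (idObj U))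
      (fun a' l hl => k l hl ≫ γ.toNatTrans.app (z l hl) ≫ G'.map (toId (z l hl).obj))
      (fun a' l hl => by
        have e' := congrArg 𝒳.p.map (hkl l hl)
        simp only [Functor.map_comp, map_map, (hk l hl).map_eq, (isVert_app γ (z l hl)).map_eq] at e' ⊢
        rw [← e']
        simp)
      (fun a' a'' l hl k₀ hkl' => by
        let z₁ := z l hl
        let z₂ := z (k₀ ≫ l) hkl'
        have e₁ : 𝒳.p.obj a'' = z₂.obj.left := (hk _ hkl').obj_eq.trans (G.w_obj _)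
        have e₂ : 𝒳.p.obj a' = z₁.obj.left := (hk l hl).obj_eq.trans (G.w_obj _)
        let g : z₂.obj.left ⟶ z₁.obj.left := eqToHom e₁.symm ≫ 𝒳.p.map k₀ ≫ eqToHom e₂
        have hw : g ≫ z₁.obj.hom = z₂.obj.hom := by
          have e' := congrArg 𝒳.p.map (show k _ hkl' ≫ G.map (toId z₂.obj) =
            k₀ ≫ k l hl ≫ G.map (toId z₁.obj) by rw [hkl, hkl])
          simp only [Functor.map_comp, map_map, (hk _ hkl').map_eq, (hk l hl).map_eq] at e'
          rw [← cancel_epi (eqToHom e₁), ← cancel_mono (eqToHom (G.w_obj (idObj U)).symm)]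
          simp [g, overCat_map, toId] at e' ⊢
          exact e'.symm
        let t : z₂ ⟶ z₁ := ObjectProperty.homMk (Over.homMk g hw)
        have hkt : k _ hkl' ≫ G.map t.hom = k₀ ≫ k l hl := by
          apply hom_eq_of_comp_eq hX (G.map (toId z₁.obj))
          · simp [map_map, (hk _ hkl').map_eq, (hk l hl).map_eq, t, g, overCat_map]
          · rw [Category.assoc, ← Functor.map_comp, toId_naturality, Category.assoc]
            exact (hkl _ hkl').trans (congrArg (k₀ ≫ ·) (hkl l hl)).symm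
        show k₀ ≫ k l hl ≫ γ.toNatTrans.app z₁ ≫ G'.map (toId z₁.obj) =
          k _ hkl' ≫ γ.toNatTrans.app z₂ ≫ G'.map (toId z₂.obj)
        rw [← toId_naturality t.hom, Functor.map_comp]
        have hn : γ.toNatTrans.app z₂ ≫ G'.map t.hom = G.map t.hom ≫ γ.toNatTrans.app z₁ :=
          (γ.toNatTrans.naturality t).symm
        rw [reassoc_of% hn, reassoc_of% hkt])
    obtain ⟨α, hα⟩ := exists_natTrans_of_eval hX G G' χ hχ
    refine ⟨α, natTrans_ext fun x => ?_⟩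
    rw [resSieve_map_app]
    apply hom_eq_of_comp_eq hX (G'.map (toId x.obj))
    · exact (isVert_app α x.obj).map_eq.trans (isVert_app γ x).map_eq.symm
    · have hl : R (𝒳.p.map (G.map (toId x.obj)) ≫ eqToHom (G.w_obj (idObj U))) := by
        rw [map_map]
        simp [overCat_map, toId]
        exact x.property
      have := hind x (z _ hl) (𝟙 _) (k _ hl) (isVert_id _) (hk _ hl)
        (by rw [Category.id_comp, hkl _ hl])
      rw [Category.id_comp] at this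
      refine (α.toNatTrans.naturality (toId x.obj)).symm.trans ?_
      rw [hα]
      exact (hχ' _ hl).trans this
  · refine hext (G.w_obj (idObj U)) (isVert_app α _) (isVert_app β _) fun a' l hl => ?_
    obtain ⟨z, k, hk, rfl⟩ := hex G l hl
    rw [Category.assoc, Category.assoc, α.toNatTrans.naturality, β.toNatTrans.naturality]
    have hz : α.toNatTrans.app z.obj = β.toNatTrans.app z.obj :=
      congrArg (fun t => t.toNatTrans.app z) h
    rw [hz]

theorem isStackFor_mk (hX : FibCat.IsFibGrpd 𝒳.p) (hext : HomExt 𝒳 R) (hglue : HomGlue 𝒳 R)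
    (hobj : ObjGlue 𝒳 R) : Stk.IsStackFor R 𝒳 := by
  obtain ⟨h₁, h₂⟩ := isPrestackFor_mk hX hext hglue
  have : (Stk.resSieve R 𝒳).EssSurj := ⟨fun H => by
    obtain ⟨a, ha, c, hc, hnat⟩ := hobj H
    let G := overFunctor hX a ha
    obtain ⟨i, hi⟩ := overFunctor_eval hX a ha
    have hd : ∀ z : (Stk.sieveCat R).obj, ∃ d : G.obj z.obj ≅ H.obj z, IsVert 𝒳.p d.hom ∧
        d.hom ≫ c z = G.map (toId z.obj) ≫ i.hom := fun z =>
      exists_vert_iso_of_lifts hX _ _ ((G.w_obj z.obj).trans (H.w_obj z).symm) (by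
        rw [Functor.map_comp, map_map, hc, hi.map_eq]
        simp [overCat_map, toId])
    choose d hd hd' using hd
    refine ⟨G, ⟨isoMk d (fun {z z'} f => ?_) hd⟩⟩
    apply hom_eq_of_comp_eq hX (c z')
    · change 𝒳.p.map (G.map f.hom ≫ (d z').hom) = 𝒳.p.map ((d z).hom ≫ H.map f)
      simp [map_map, (hd z).map_eq, (hd z').map_eq, overCat_map, sieveCat_map_left]
    · rw [Category.assoc, Category.assoc, hnat f, hd' z, hd' z']
      exact (Category.assoc _ _ _).symm.trans (congrArg (· ≫ i.hom)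
        ((G.toFunctor.map_comp _ _).symm.trans (congrArg G.map (toId_naturality f.hom))))⟩
  exact { }

theorem homExt_of_faithful (hX : FibCat.IsFibGrpd 𝒳.p) (h : (Stk.resSieve R 𝒳).Faithful) :
    HomExt 𝒳 R := by
  intro a b ha χ χ' hχ hχ' hl
  subst ha
  refine vert_hom_ext_of_local hX R h hχ hχ' fun a' l hR => hl l ?_
  rwa [eqToHom_refl, Category.comp_id]

theorem homGlue_of_full (hX : FibCat.IsFibGrpd 𝒳.p) (h : (Stk.resSieve R 𝒳).Full) :
    HomGlue 𝒳 R := by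
  intro a b ha hb m hm hc
  subst ha
  obtain ⟨χ, hχ, hχ'⟩ := Groth.StkGerb.glue_hom hX hb.symm R h
    (fun a' l hl => m l (by rwa [eqToHom_refl, Category.comp_id]))
    (fun a' l hl => hm l _) (fun a' a'' l hl k hkl => hc l _ k _)
  exact ⟨χ, hχ, fun a' l hl => hχ' l (by rwa [eqToHom_refl, Category.comp_id] at hl)⟩

theorem objGlue_of_essSurj (h : (Stk.resSieve R 𝒳).EssSurj) :
    ObjGlue 𝒳 R := by
  intro H
  obtain ⟨G, ⟨e⟩⟩ := h.mem_essImage H
  refine ⟨G.obj (idObj U), G.w_obj _, fun z => (isoApp e z).inv ≫ G.map (toId z.obj), fun z => ?_,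
    fun z z' f => ?_⟩
  · rw [Functor.map_comp, map_map, (isVert_isoApp e z).inv.map_eq]
    simp [overCat_map, toId]
  · rw [← cancel_epi (isoApp e z).hom, Iso.hom_inv_id_assoc]
    erw [← reassoc_of% (isoApp_naturality e f), Iso.hom_inv_id_assoc]
    exact (G.toFunctor.map_comp _ _).symm.trans (congrArg G.map (toId_naturality f.hom))

end Groth.StkBase
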