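import Groth.Prelude.Def_FibCat2

/-!
# Basic toolkit for categories over a base category: vertical morphisms, categories fibred in groupoids,
# equivalences over the base
-/

set_option autoImplicit false
set_option backward.isDefEq.respectTransparency false
set_option backward.isDefEq.respectTransparency.types false

universe v₅ u₅ v₄ u₄ v₃ u₃ v₂ u₂ v u

open CategoryTheory

namespace Groth.StkBase

variable {C : Type u} [Category.{v} C]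

section Vert

variable {E : Type u₂} [Category.{v₂} E] {p : E ⥤ C}

/-- A morphism lying over an identity, written with `eqToHom`. -/
def IsVert (p : E ⥤ C) {a b : E} (φ : a ⟶ b) : Prop :=
  ∃ h : p.obj a = p.obj b, p.map φ = eqToHom h

theorem IsVert.obj_eq {a b : E} {φ : a ⟶ b} (h : IsVert p φ) : p.obj a = p.obj b := h.1

theorem IsVert.map_eq {a b : E} {φ : a ⟶ b} (h : IsVert p φ) : p.map φ = eqToHom h.obj_eq := h.2

theorem isVert_of_isHomLift {R : C} {a b : E} {φ : a ⟶ b} (h : p.IsHomLift (𝟙 R) φ) : IsVert p φ :=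
  ⟨(IsHomLift.domain_eq p (𝟙 R) φ).trans (IsHomLift.codomain_eq p (𝟙 R) φ).symm, by
    rw [IsHomLift.fac' p (𝟙 R) φ]; simp⟩

theorem IsVert.isHomLift_dom {a b : E} {φ : a ⟶ b} (h : IsVert p φ) :
    p.IsHomLift (𝟙 (p.obj a)) φ :=
  IsHomLift.of_fac p _ _ rfl h.obj_eq.symm (by simp [h.map_eq])

theorem IsVert.isHomLift {R : C} {a b : E} {φ : a ⟶ b} (h : IsVert p φ) (ha : p.obj a = R) :
    p.IsHomLift (𝟙 R) φ := by
  subst ha; exact h.isHomLift_dom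

theorem IsVert.isHomLift' {R : C} {a b : E} {φ : a ⟶ b} (h : IsVert p φ) (hb : p.obj b = R) :
    p.IsHomLift (𝟙 R) φ :=
  h.isHomLift (h.obj_eq.trans hb)

theorem isVert_id (a : E) : IsVert p (𝟙 a) := ⟨rfl, by simp⟩

theorem isVert_eqToHom {a b : E} (h : a = b) : IsVert p (eqToHom h) := by
  subst h; exact isVert_id a

theorem IsVert.comp {a b c : E} {φ : a ⟶ b} {ψ : b ⟶ c} (h : IsVert p φ) (h' : IsVert p ψ) :
    IsVert p (φ ≫ ψ) :=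
  ⟨h.obj_eq.trans h'.obj_eq, by simp [h.map_eq, h'.map_eq]⟩

theorem IsVert.inv {a b : E} {φ : a ≅ b} (h : IsVert p φ.hom) : IsVert p φ.inv :=
  ⟨h.obj_eq.symm, by rw [← cancel_epi (p.map φ.hom), ← p.map_comp]; simp [h.map_eq]⟩

theorem isHomLift_iff_eqToHom {R T : C} {a b : E} (f : R ⟶ T) (φ : a ⟶ b) :
    p.IsHomLift f φ ↔
      ∃ (ha : p.obj a = R) (hb : p.obj b = T), p.map φ = eqToHom ha ≫ f ≫ eqToHom hb.symm :=
  ⟨fun _ => ⟨IsHomLift.domain_eq p f φ, IsHomLift.codomain_eq p f φ, IsHomLift.fac' p f φ⟩, fun ⟨ha, hb, h⟩ => IsHomLift.of_fac' p f φ ha hb h⟩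

end Vert

section FibGrpd

variable {E : Type u₂} [Category.{v₂} E] {p : E ⥤ C}

theorem factor_unique (hp : FibCat.IsFibGrpd p) {z y x : E} (φ : y ⟶ x) (ψ : z ⟶ x)
    (g : p.obj z ⟶ p.obj y) (h : g ≫ p.map φ = p.map ψ) :
    ∃! χ : z ⟶ y, p.map χ = g ∧ χ ≫ φ = ψ := by
  have := hp.isStronglyCartesian φ
  have hψ : p.IsHomLift (g ≫ p.map φ) ψ := by rw [h]; infer_instance
  obtain ⟨χ, ⟨hχ, hc⟩, hu⟩ :=
    Functor.IsStronglyCartesian.universal_property' (p := p) (f := p.map φ) (φ := φ) g ψ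
  refine ⟨χ, ⟨(IsHomLift.eq_of_isHomLift p g χ).symm, hc⟩, ?_⟩
  rintro χ' ⟨rfl, hc'⟩
  exact hu χ' ⟨inferInstance, hc'⟩

/-- The factorisation of `ψ` through `φ` over `g`. -/
noncomputable def factor (hp : FibCat.IsFibGrpd p) {z y x : E} (φ : y ⟶ x) (ψ : z ⟶ x)
    (g : p.obj z ⟶ p.obj y) (h : g ≫ p.map φ = p.map ψ) : z ⟶ y :=
  (factor_unique hp φ ψ g h).exists.choose

theorem factor_map (hp : FibCat.IsFibGrpd p) {z y x : E} (φ : y ⟶ x) (ψ : z ⟶ x)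
    (g : p.obj z ⟶ p.obj y) (h : g ≫ p.map φ = p.map ψ) : p.map (factor hp φ ψ g h) = g :=
  (factor_unique hp φ ψ g h).exists.choose_spec.1

theorem factor_comp (hp : FibCat.IsFibGrpd p) {z y x : E} (φ : y ⟶ x) (ψ : z ⟶ x)
    (g : p.obj z ⟶ p.obj y) (h : g ≫ p.map φ = p.map ψ) : factor hp φ ψ g h ≫ φ = ψ :=
  (factor_unique hp φ ψ g h).exists.choose_spec.2

theorem hom_eq_of_comp_eq (hp : FibCat.IsFibGrpd p) {z y x : E} (φ : y ⟶ x) {χ χ' : z ⟶ y}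
    (h₁ : p.map χ = p.map χ') (h₂ : χ ≫ φ = χ' ≫ φ) : χ = χ' :=
  (factor_unique hp φ (χ' ≫ φ) (p.map χ') (p.map_comp _ _).symm).unique ⟨h₁, h₂⟩ ⟨rfl, rfl⟩

theorem isFibGrpd_mk
    (hl : ∀ {x : E} {V : C} (f : V ⟶ p.obj x),
      ∃ (y : E) (φ : y ⟶ x) (h : p.obj y = V), p.map φ = eqToHom h ≫ f)
    (hf : ∀ {z y x : E} (φ : y ⟶ x) (ψ : z ⟶ x) (g : p.obj z ⟶ p.obj y),
      g ≫ p.map φ = p.map ψ → ∃! χ : z ⟶ y, p.map χ = g ∧ χ ≫ φ = ψ) :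
    FibCat.IsFibGrpd p where
  exists_lift := fun f => by
    obtain ⟨y, φ, h, e⟩ := hl f
    exact ⟨y, φ, IsHomLift.of_fac' p f φ h rfl (by simpa using e)⟩
  isStronglyCartesian := fun φ =>
    { universal_property' := fun g ψ hψ => by
        obtain ⟨χ, ⟨h1, h2⟩, hu⟩ := hf φ ψ g (IsHomLift.eq_of_isHomLift p (g ≫ p.map φ) ψ)
        refine ⟨χ, ⟨h1 ▸ inferInstance, h2⟩, ?_⟩
        rintro χ' ⟨hχ', h'⟩
        exact hu χ' ⟨(IsHomLift.eq_of_isHomLift p g χ').symm, h'⟩ }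

theorem isIso_of_isIso_map (hp : FibCat.IsFibGrpd p) {a b : E} (φ : a ⟶ b)
    (hi : IsIso (p.map φ)) : IsIso φ := by
  refine ⟨factor hp φ (𝟙 b) (inv (p.map φ)) (by simp), ?_, factor_comp ..⟩
  apply hom_eq_of_comp_eq hp φ
  · simp [factor_map]
  · simp [factor_comp]

theorem IsVert.isIso (hp : FibCat.IsFibGrpd p) {a b : E} {φ : a ⟶ b} (h : IsVert p φ) : IsIso φ :=
  isIso_of_isIso_map hp φ (by rw [h.map_eq]; infer_instance)

theorem exists_lift' (hp : FibCat.IsFibGrpd p) {x : E} {V : C} (f : V ⟶ p.obj x) :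
    ∃ (y : E) (φ : y ⟶ x) (h : p.obj y = V), p.map φ = eqToHom h ≫ f := by
  obtain ⟨y, φ, h⟩ := hp.exists_lift f
  exact ⟨y, φ, IsHomLift.domain_eq p f φ, by rw [IsHomLift.fac' p f φ]; simp⟩

/-- Chosen pullback object of `x` along `f`. -/
noncomputable def liftObj (hp : FibCat.IsFibGrpd p) {x : E} {V : C} (f : V ⟶ p.obj x) : E :=
  (exists_lift' hp f).choose

/-- The morphism from the chosen pullback. -/
noncomputable def liftMap (hp : FibCat.IsFibGrpd p) {x : E} {V : C} (f : V ⟶ p.obj x) :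
    liftObj hp f ⟶ x :=
  (exists_lift' hp f).choose_spec.choose

theorem liftObj_p (hp : FibCat.IsFibGrpd p) {x : E} {V : C} (f : V ⟶ p.obj x) :
    p.obj (liftObj hp f) = V :=
  (exists_lift' hp f).choose_spec.choose_spec.choose

theorem liftMap_p (hp : FibCat.IsFibGrpd p) {x : E} {V : C} (f : V ⟶ p.obj x) :
    p.map (liftMap hp f) = eqToHom (liftObj_p hp f) ≫ f :=
  (exists_lift' hp f).choose_spec.choose_spec.choose_spec

theorem exists_vert_iso_of_lifts (hp : FibCat.IsFibGrpd p) {y y' x : E} (φ : y ⟶ x) (φ' : y' ⟶ x)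
    (h : p.obj y = p.obj y') (e : p.map φ = eqToHom h ≫ p.map φ') :
    ∃ i : y ≅ y', IsVert p i.hom ∧ i.hom ≫ φ' = φ := by
  let χ := factor hp φ' φ (eqToHom h) e.symm
  have hv : IsVert p χ := ⟨h, factor_map hp φ' φ _ e.symm⟩
  have := hv.isIso hp
  exact ⟨asIso χ, hv, factor_comp hp φ' φ _ e.symm⟩

end FibGrpd

section Based

variable {𝒳 : BasedCategory.{v₂, u₂} C} {𝒴 : BasedCategory.{v₃, u₃} C} {𝒵 : BasedCategory.{v₄, u₄} C}

theorem map_map (F : 𝒳 ⥤ᵇ 𝒴) {a b : 𝒳.obj} (φ : a ⟶ b) :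
    𝒴.p.map (F.map φ) = eqToHom (F.w_obj a) ≫ 𝒳.p.map φ ≫ eqToHom (F.w_obj b).symm :=
  Functor.congr_hom F.w φ

theorem isVert_map {F : 𝒳 ⥤ᵇ 𝒴} {a b : 𝒳.obj} {φ : a ⟶ b} (h : IsVert 𝒳.p φ) :
    IsVert 𝒴.p (F.map φ) :=
  ⟨((F.w_obj a).trans h.obj_eq).trans (F.w_obj b).symm, by simp [map_map, h.map_eq]⟩

theorem isVert_of_map {F : 𝒳 ⥤ᵇ 𝒴} {a b : 𝒳.obj} {φ : a ⟶ b} (h : IsVert 𝒴.p (F.map φ)) :
    IsVert 𝒳.p φ := by
  haveI := h.isHomLift_dom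
  have := F.isHomLift_map (𝟙 (𝒴.p.obj (F.obj a))) φ
  exact isVert_of_isHomLift this

theorem isVert_app {F G : 𝒳 ⥤ᵇ 𝒴} (α : F ⟶ G) (a : 𝒳.obj) : IsVert 𝒴.p (α.toNatTrans.app a) :=
  isVert_of_isHomLift (α.isHomLift' a)

/-- A 2-isomorphism over `C` from vertical components. -/
def isoMk {F G : 𝒳 ⥤ᵇ 𝒴} (c : ∀ a, F.obj a ≅ G.obj a)
    (nat : ∀ {a b : 𝒳.obj} (φ : a ⟶ b), F.map φ ≫ (c b).hom = (c a).hom ≫ G.map φ)
    (hv : ∀ a, IsVert 𝒴.p (c a).hom) : F ≅ G :=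
  BasedNatIso.mkNatIso (NatIso.ofComponents c nat) (fun a => (hv a).isHomLift (F.w_obj a))

/-- The component of a 2-isomorphism over `C`. -/
def isoApp {F G : 𝒳 ⥤ᵇ 𝒴} (α : F ≅ G) (a : 𝒳.obj) : F.obj a ≅ G.obj a :=
  ((BasedNatTrans.forgetful 𝒳 𝒴).mapIso α).app a

theorem isVert_isoApp {F G : 𝒳 ⥤ᵇ 𝒴} (α : F ≅ G) (a : 𝒳.obj) : IsVert 𝒴.p (isoApp α a).hom :=
  isVert_app α.hom a

theorem isoApp_naturality {F G : 𝒳 ⥤ᵇ 𝒴} (α : F ≅ G) {a b : 𝒳.obj} (φ : a ⟶ b) :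
    F.map φ ≫ (isoApp α b).hom = (isoApp α a).hom ≫ G.map φ :=
  α.hom.toNatTrans.naturality φ

theorem natTrans_ext {F G : 𝒳 ⥤ᵇ 𝒴} {α β : F ⟶ G}
    (h : ∀ a, α.toNatTrans.app a = β.toNatTrans.app a) : α = β :=
  BasedNatTrans.homCategory.ext _ _ (NatTrans.ext (funext h))

theorem natTrans_isIso (hY : FibCat.IsFibGrpd 𝒴.p) {F G : 𝒳 ⥤ᵇ 𝒴} (α : F ⟶ G) : IsIso α := by
  have : ∀ a, IsIso (α.toNatTrans.app a) := fun a => (isVert_app α a).isIso hY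
  have : IsIso (X := F.toFunctor) α.toNatTrans := NatIso.isIso_of_isIso_app _
  exact BasedNatIso.isIso_of_toNatTrans_isIso α

/-- Left whiskering of 2-isomorphisms. -/
def whiskerLeftIso (F : 𝒳 ⥤ᵇ 𝒴) {G H : 𝒴 ⥤ᵇ 𝒵} (α : G ≅ H) :
    BasedFunctor.comp F G ≅ BasedFunctor.comp F H :=
  isoMk (fun a => isoApp α (F.obj a)) (fun φ => isoApp_naturality α _)
    (fun a => isVert_isoApp α _)

/-- Right whiskering of 2-isomorphisms. -/
def whiskerRightIso {F G : 𝒳 ⥤ᵇ 𝒴} (α : F ≅ G) (H : 𝒴 ⥤ᵇ 𝒵) :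
    BasedFunctor.comp F H ≅ BasedFunctor.comp G H :=
  isoMk (fun a => H.toFunctor.mapIso (isoApp α a))
    (fun {a b} φ => by
      change H.map (F.map φ) ≫ H.map (isoApp α b).hom = H.map (isoApp α a).hom ≫ H.map (G.map φ)
      rw [← H.toFunctor.map_comp, isoApp_naturality, H.toFunctor.map_comp])
    (fun a => isVert_map (isVert_isoApp α a))

@[simp] theorem isoApp_refl_hom (F : 𝒳 ⥤ᵇ 𝒴) (a : 𝒳.obj) :
    (isoApp (Iso.refl F) a).hom = 𝟙 (F.obj a) := rfl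

@[simp] theorem isoApp_trans_hom {F G H : 𝒳 ⥤ᵇ 𝒴} (α : F ≅ G) (β : G ≅ H) (a : 𝒳.obj) :
    (isoApp (α.trans β) a).hom = (isoApp α a).hom ≫ (isoApp β a).hom := rfl

@[simp] theorem isoApp_symm_hom {F G : 𝒳 ⥤ᵇ 𝒴} (α : F ≅ G) (a : 𝒳.obj) :
    (isoApp α.symm a).hom = (isoApp α a).inv := rfl

@[simp] theorem isoApp_symm_inv {F G : 𝒳 ⥤ᵇ 𝒴} (α : F ≅ G) (a : 𝒳.obj) :
    (isoApp α.symm a).inv = (isoApp α a).hom := rfl

@[simp] theorem isoApp_whiskerLeftIso (F : 𝒳 ⥤ᵇ 𝒴) {G H : 𝒴 ⥤ᵇ 𝒵} (α : G ≅ H) (a : 𝒳.obj) :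
    isoApp (whiskerLeftIso F α) a = isoApp α (F.obj a) := Iso.ext rfl

@[simp] theorem isoApp_whiskerRightIso {F G : 𝒳 ⥤ᵇ 𝒴} (α : F ≅ G) (H : 𝒴 ⥤ᵇ 𝒵) (a : 𝒳.obj) :
    isoApp (whiskerRightIso α H) a = H.toFunctor.mapIso (isoApp α a) := Iso.ext rfl

@[simp] theorem isoApp_isoMk {F G : 𝒳 ⥤ᵇ 𝒴} (c : ∀ a, F.obj a ≅ G.obj a)
    (nat : ∀ {a b : 𝒳.obj} (φ : a ⟶ b), F.map φ ≫ (c b).hom = (c a).hom ≫ G.map φ)
    (hv : ∀ a, IsVert 𝒴.p (c a).hom) (a : 𝒳.obj) : isoApp (isoMk c nat hv) a = c a := Iso.ext rfl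

@[simp] theorem bComp_obj (F : 𝒳 ⥤ᵇ 𝒴) (G : 𝒴 ⥤ᵇ 𝒵) (a : 𝒳.obj) :
    (BasedFunctor.comp F G).obj a = G.obj (F.obj a) := rfl

@[simp] theorem bComp_map (F : 𝒳 ⥤ᵇ 𝒴) (G : 𝒴 ⥤ᵇ 𝒵) {a b : 𝒳.obj} (φ : a ⟶ b) :
    (BasedFunctor.comp F G).map φ = G.map (F.map φ) := rfl

@[simp] theorem bId_obj (a : 𝒳.obj) : (BasedFunctor.id 𝒳).obj a = a := rfl

@[simp] theorem bId_map {a b : 𝒳.obj} (φ : a ⟶ b) : (BasedFunctor.id 𝒳).map φ = φ := rfl

/-- Equivalences over `C` are fully faithful and essentially surjective up to vertical isomorphisms. -/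
theorem exists_vert_preimage {F : 𝒳 ⥤ᵇ 𝒴} (hF : FibCat.IsEquivOver F) (y : 𝒴.obj) :
    ∃ (x : 𝒳.obj) (φ : F.obj x ≅ y), IsVert 𝒴.p φ.hom := by
  obtain ⟨G, -, ⟨e⟩⟩ := hF
  exact ⟨G.obj y, isoApp e y, isVert_isoApp e y⟩

theorem isEquivalence_of_isEquivOver {F : 𝒳 ⥤ᵇ 𝒴} (hF : FibCat.IsEquivOver F) :
    F.toFunctor.IsEquivalence := by
  obtain ⟨G, ⟨η⟩, ⟨ε⟩⟩ := hF
  exact (CategoryTheory.Equivalence.mk F.toFunctor G.toFunctor
    ((BasedNatTrans.forgetful _ _).mapIso η).symm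
    ((BasedNatTrans.forgetful _ _).mapIso ε)).isEquivalence_functor

theorem faithful_of_isEquivOver {F : 𝒳 ⥤ᵇ 𝒴} (hF : FibCat.IsEquivOver F) : F.toFunctor.Faithful :=
  have := isEquivalence_of_isEquivOver hF; inferInstance

theorem full_of_isEquivOver {F : 𝒳 ⥤ᵇ 𝒴} (hF : FibCat.IsEquivOver F) : F.toFunctor.Full :=
  have := isEquivalence_of_isEquivOver hF; inferInstance

section Criterion

variable (F : 𝒳 ⥤ᵇ 𝒴) (x : 𝒴.obj → 𝒳.obj) (φ : ∀ y, F.obj (x y) ≅ y)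
  (hφ : ∀ y, IsVert 𝒴.p (φ y).hom)

/-- The inverse functor built from vertical preimages. -/
noncomputable def invFunctor [F.toFunctor.Full] [F.toFunctor.Faithful] : 𝒴 ⥤ᵇ 𝒳 where
  toFunctor :=
    { obj := x
      map := fun {y y'} ψ => F.toFunctor.preimage ((φ y).hom ≫ ψ ≫ (φ y').inv)
      map_id := fun y => F.toFunctor.map_injective (by simp)
      map_comp := fun f g => F.toFunctor.map_injective (by simp) }
  w := Functor.ext (fun y => (F.w_obj (x y)).symm.trans (hφ y).obj_eq) (fun y y' ψ => by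
    have h := map_map F (F.toFunctor.preimage ((φ y).hom ≫ ψ ≫ (φ y').inv))
    simp [(hφ y).map_eq, (hφ y').inv.map_eq] at h
    simp only [Functor.comp_map]
    rw [← cancel_epi (eqToHom (F.w_obj (x y))),
      ← cancel_mono (eqToHom (F.w_obj (x y')).symm)]
    simpa using h.symm)

include hφ in
theorem isEquivOver_of_preimages [F.toFunctor.Full] [F.toFunctor.Faithful] :
    FibCat.IsEquivOver F := by
  refine ⟨invFunctor F x φ hφ, ⟨isoMk (fun a => F.toFunctor.preimageIso (φ (F.obj a))) ?_ ?_⟩,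
    ⟨isoMk φ ?_ hφ⟩⟩
  · intro a b f
    apply F.toFunctor.map_injective
    simp [invFunctor, BasedFunctor.comp, BasedFunctor.id]
  · intro a
    apply isVert_of_map (F := F)
    simpa using hφ (F.obj a)
  · intro a b f
    simp [invFunctor, BasedFunctor.comp, BasedFunctor.id]

end Criterion

/-- Criterion for an equivalence over `C`. -/
theorem isEquivOver_of_fullyFaithful (F : 𝒳 ⥤ᵇ 𝒴) (hf : F.toFunctor.Full) (hff : F.toFunctor.Faithful)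
    (h : ∀ y : 𝒴.obj, ∃ (x : 𝒳.obj) (φ : F.obj x ≅ y), IsVert 𝒴.p φ.hom) :
    FibCat.IsEquivOver F := by
  choose x φ hφ using h
  exact isEquivOver_of_preimages F x φ hφ

theorem isEquivOver_iff (F : 𝒳 ⥤ᵇ 𝒴) :
    FibCat.IsEquivOver F ↔ F.toFunctor.Full ∧ F.toFunctor.Faithful ∧
      ∀ y : 𝒴.obj, ∃ (x : 𝒳.obj) (φ : F.obj x ≅ y), IsVert 𝒴.p φ.hom :=
  ⟨fun h => ⟨full_of_isEquivOver h, faithful_of_isEquivOver h, exists_vert_preimage h⟩,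
    fun ⟨a, b, c⟩ => isEquivOver_of_fullyFaithful F a b c⟩

theorem isEquivOver_id (𝒳 : BasedCategory.{v₂, u₂} C) : FibCat.IsEquivOver (BasedFunctor.id 𝒳) :=
  ⟨BasedFunctor.id 𝒳, ⟨Iso.refl _⟩, ⟨Iso.refl _⟩⟩

theorem isEquivOver_symm {F : 𝒳 ⥤ᵇ 𝒴} (hF : FibCat.IsEquivOver F) :
    ∃ G : 𝒴 ⥤ᵇ 𝒳, FibCat.IsEquivOver G ∧ Nonempty (BasedFunctor.comp F G ≅ BasedFunctor.id 𝒳) ∧
      Nonempty (BasedFunctor.comp G F ≅ BasedFunctor.id 𝒴) := by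
  obtain ⟨G, h1, h2⟩ := hF
  exact ⟨G, ⟨F, h2, h1⟩, h1, h2⟩

theorem isEquivOver_comp {F : 𝒳 ⥤ᵇ 𝒴} {G : 𝒴 ⥤ᵇ 𝒵} (hF : FibCat.IsEquivOver F)
    (hG : FibCat.IsEquivOver G) : FibCat.IsEquivOver (BasedFunctor.comp F G) := by
  obtain ⟨F', ⟨a⟩, ⟨b⟩⟩ := hF
  obtain ⟨G', ⟨c⟩, ⟨d⟩⟩ := hG
  refine ⟨BasedFunctor.comp G' F', ⟨?_⟩, ⟨?_⟩⟩
  · exact (whiskerLeftIso F (whiskerRightIso c F')).trans a
  · exact (whiskerLeftIso G' (whiskerRightIso b G)).trans d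

theorem isEquivOver_of_iso {F G : 𝒳 ⥤ᵇ 𝒴} (α : F ≅ G) (hF : FibCat.IsEquivOver F) :
    FibCat.IsEquivOver G := by
  obtain ⟨H, ⟨a⟩, ⟨b⟩⟩ := hF
  exact ⟨H, ⟨(whiskerRightIso α H).symm.trans a⟩, ⟨(whiskerLeftIso H α).symm.trans b⟩⟩

/-- Being fibred in groupoids is invariant under equivalence over `C`. -/
theorem isFibGrpd_of_isEquivOver {F : 𝒳 ⥤ᵇ 𝒴} (hF : FibCat.IsEquivOver F)
    (hX : FibCat.IsFibGrpd 𝒳.p) : FibCat.IsFibGrpd 𝒴.p := by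
  have := full_of_isEquivOver hF
  have := faithful_of_isEquivOver hF
  refine isFibGrpd_mk (fun {y V} f => ?_) (fun {z y w} φ ψ g hg => ?_)
  · obtain ⟨x, e, he⟩ := exists_vert_preimage hF y
    have hxy : 𝒳.p.obj x = 𝒴.p.obj y := (F.w_obj x).symm.trans he.obj_eq
    refine ⟨F.obj (liftObj hX (f ≫ eqToHom hxy.symm)),
      F.map (liftMap hX (f ≫ eqToHom hxy.symm)) ≫ e.hom, (F.w_obj _).trans (liftObj_p ..), ?_⟩
    simp [map_map, he.map_eq, liftMap_p]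
  · obtain ⟨z', ez, hz⟩ := exists_vert_preimage hF z
    obtain ⟨y', ey, hy⟩ := exists_vert_preimage hF y
    obtain ⟨w', ew, hw⟩ := exists_vert_preimage hF w
    have e₁ := (F.w_obj z').symm.trans hz.obj_eq
    have e₂ := (F.w_obj y').symm.trans hy.obj_eq
    let φ' := F.toFunctor.preimage (ey.hom ≫ φ ≫ ew.inv)
    let ψ' := F.toFunctor.preimage (ez.hom ≫ ψ ≫ ew.inv)
    have hφ : F.map φ' = ey.hom ≫ φ ≫ ew.inv := F.toFunctor.map_preimage _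
    have hψ : F.map ψ' = ez.hom ≫ ψ ≫ ew.inv := F.toFunctor.map_preimage _
    have pφ := map_map F φ'
    have pψ := map_map F ψ'
    simp [hφ, hψ, hy.map_eq, hz.map_eq, hw.inv.map_eq] at pφ pψ
    have hg' : (eqToHom e₁ ≫ g ≫ eqToHom e₂.symm) ≫ 𝒳.p.map φ' = 𝒳.p.map ψ' := by
      rw [← cancel_epi (eqToHom (F.w_obj z')), ← cancel_mono (eqToHom (F.w_obj w').symm)]
      simp only [Category.assoc]
      rw [← pψ, ← hg]
      simp only [Category.assoc]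
      have := congrArg (fun t => eqToHom hy.obj_eq.symm ≫ t) pφ
      simp at this
      rw [← this]
      simp
    refine ⟨ez.inv ≫ F.map (factor hX φ' ψ' _ hg') ≫ ey.hom, ⟨?_, ?_⟩, ?_⟩
    · simp [map_map, factor_map, hz.inv.map_eq, hy.map_eq]
    · have := congrArg (fun t => ez.inv ≫ F.map t ≫ ew.hom) (factor_comp hX φ' ψ' _ hg')
      simpa [hφ, hψ] using this
    · rintro χ ⟨h1, h2⟩
      rw [← cancel_epi ez.hom, ← cancel_mono ey.inv]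
      simp
      rw [← F.toFunctor.map_preimage (ez.hom ≫ χ ≫ ey.inv)]
      congr 1
      apply hom_eq_of_comp_eq hX φ'
      · have := map_map F (F.toFunctor.preimage (ez.hom ≫ χ ≫ ey.inv))
        simp [hz.map_eq, hy.inv.map_eq, h1] at this
        rw [factor_map, ← cancel_epi (eqToHom (F.w_obj z')),
          ← cancel_mono (eqToHom (F.w_obj y').symm)]
        simp
        exact this.symm
      · rw [factor_comp]
        apply F.toFunctor.map_injective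
        simp [hφ, hψ, reassoc_of% h2]

theorem isFibGrpd_iff_of_isEquivOver {F : 𝒳 ⥤ᵇ 𝒴} (hF : FibCat.IsEquivOver F) :
    FibCat.IsFibGrpd 𝒳.p ↔ FibCat.IsFibGrpd 𝒴.p := by
  refine ⟨isFibGrpd_of_isEquivOver hF, ?_⟩
  obtain ⟨G, hG, -⟩ := isEquivOver_symm hF
  exact isFibGrpd_of_isEquivOver hG

/-- A fully faithful functor over `C` into a category fibred in groupoids: fill-in. -/
theorem IsVert.eq_id_of_thin (h : FibCat.IsFibSetoid 𝒳.p) {a : 𝒳.obj} {φ : a ⟶ a}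
    (hv : IsVert 𝒳.p φ) : φ = 𝟙 a := by
  have := (h.2 (𝒳.p.obj a) ⟨a, rfl⟩ ⟨a, rfl⟩).elim ⟨φ, hv.isHomLift_dom⟩
    ⟨𝟙 a, (isVert_id a).isHomLift_dom⟩
  exact congrArg Subtype.val this

end Based

end Groth.StkBase
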