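import Groth.Agent.StkBase.Yoneda
import Groth.Prelude.Def_AlgSt

/-!
# Prestacks and stacks: invariance under equivalences, 2-fibre products
-/

set_option autoImplicit false
set_option backward.isDefEq.respectTransparency false
set_option backward.isDefEq.respectTransparency.types false

universe v₅ u₅ v₄ u₄ v₃ u₃ v₂ u₂ v u

open CategoryTheory CategoryTheory.Limits

namespace Groth.StkBase

variable {C : Type u} [Category.{v} C]
variable {𝒳 : BasedCategory.{v₂, u₂} C} {𝒴 : BasedCategory.{v₃, u₃} C} {𝒮 : BasedCategory.{v₄, u₄} C}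
  {𝒜 : BasedCategory.{v₅, u₅} C}

/-- Post-composition with a functor over `C`. -/
def postF (𝒜 : BasedCategory.{v₅, u₅} C) (F : 𝒳 ⥤ᵇ 𝒴) : (𝒜 ⥤ᵇ 𝒳) ⥤ (𝒜 ⥤ᵇ 𝒴) where
  obj G := BasedFunctor.comp G F
  map α := BasedCategory.whiskerRight α F
  map_id G := natTrans_ext fun a => F.toFunctor.map_id _
  map_comp α β := natTrans_ext fun a => F.toFunctor.map_comp _ _

theorem postF_map_app (F : 𝒳 ⥤ᵇ 𝒴) {G G' : 𝒜 ⥤ᵇ 𝒳} (α : G ⟶ G') (a : 𝒜.obj) :
    ((postF 𝒜 F).map α).toNatTrans.app a = F.map (α.toNatTrans.app a) := rfl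

theorem postF_fullyFaithful (F : 𝒳 ⥤ᵇ 𝒴) [F.toFunctor.Full] [F.toFunctor.Faithful] :
    (postF 𝒜 F).Full ∧ (postF 𝒜 F).Faithful := by
  refine ⟨⟨fun {G G'} β => ?_⟩, ⟨fun {G G'} α β h => natTrans_ext fun a =>
    F.toFunctor.map_injective (congrArg (fun t => t.toNatTrans.app a) h)⟩⟩
  refine ⟨⟨⟨fun a => F.toFunctor.preimage (β.toNatTrans.app a), fun a b φ => F.toFunctor.map_injective ?_⟩,
    fun a => ?_⟩, natTrans_ext fun a => F.toFunctor.map_preimage _⟩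
  · simp only [Functor.map_comp, F.toFunctor.map_preimage]
    exact β.toNatTrans.naturality φ
  · refine IsVert.isHomLift (isVert_of_map (F := F) ?_) (G.w_obj a)
    rw [F.toFunctor.map_preimage]
    exact isVert_app β a

theorem postF_isEquivalence {F : 𝒳 ⥤ᵇ 𝒴} (hF : FibCat.IsEquivOver F) :
    (postF 𝒜 F).IsEquivalence := by
  have := full_of_isEquivOver hF
  have := faithful_of_isEquivOver hF
  obtain ⟨G, -, ⟨ε⟩⟩ := hF
  obtain ⟨h1, h2⟩ := postF_fullyFaithful (𝒜 := 𝒜) F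
  have : (postF 𝒜 F).EssSurj := ⟨fun H => ⟨BasedFunctor.comp H G, ⟨whiskerLeftIso H ε⟩⟩⟩
  exact { }

theorem resSieve_map_app {U : C} (R : Sieve U) {G G' : FibCat.overCat U ⥤ᵇ 𝒳} (α : G ⟶ G')
    (a : (Stk.sieveCat R).obj) :
    ((Stk.resSieve R 𝒳).map α).toNatTrans.app a = α.toNatTrans.app ((Stk.sieveIncl R).obj a) := rfl

theorem resSieve_comp_postF {U : C} (R : Sieve U) (F : 𝒳 ⥤ᵇ 𝒴) :
    Stk.resSieve R 𝒳 ⋙ postF _ F = postF _ F ⋙ Stk.resSieve R 𝒴 := rfl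

theorem isPrestackFor_of_isEquivOver {U : C} (R : Sieve U) {F : 𝒳 ⥤ᵇ 𝒴}
    (hF : FibCat.IsEquivOver F) (h : Stk.IsPrestackFor R 𝒳) : Stk.IsPrestackFor R 𝒴 := by
  obtain ⟨h1, h2⟩ := h
  have := postF_isEquivalence (𝒜 := Stk.sieveCat R) hF
  have := postF_isEquivalence (𝒜 := FibCat.overCat U) hF
  let e := (postF (FibCat.overCat U) F).asEquivalence
  have i : e.inverse ⋙ (Stk.resSieve R 𝒳 ⋙ postF _ F) ≅ Stk.resSieve R 𝒴 :=
    Functor.isoWhiskerLeft e.inverse (eqToIso (resSieve_comp_postF R F)) ≪≫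
      (Functor.associator _ _ _).symm ≪≫ Functor.isoWhiskerRight e.counitIso _ ≪≫
        Functor.leftUnitor _
  exact ⟨Functor.Full.of_iso i, Functor.Faithful.of_iso i⟩

theorem isPrestackFor_iff_of_isEquivOver {U : C} (R : Sieve U) {F : 𝒳 ⥤ᵇ 𝒴}
    (hF : FibCat.IsEquivOver F) : Stk.IsPrestackFor R 𝒳 ↔ Stk.IsPrestackFor R 𝒴 := by
  refine ⟨isPrestackFor_of_isEquivOver R hF, ?_⟩
  obtain ⟨G, hG, -⟩ := isEquivOver_symm hF
  exact isPrestackFor_of_isEquivOver R hG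

theorem isStackFor_of_isEquivOver {U : C} (R : Sieve U) {F : 𝒳 ⥤ᵇ 𝒴}
    (hF : FibCat.IsEquivOver F) (h : Stk.IsStackFor R 𝒳) : Stk.IsStackFor R 𝒴 := by
  have : (Stk.resSieve R 𝒳).IsEquivalence := h
  obtain ⟨h1, h2⟩ := isPrestackFor_of_isEquivOver R hF ⟨inferInstance, inferInstance⟩
  have := postF_isEquivalence (𝒜 := Stk.sieveCat R) hF
  have hes : (postF (FibCat.overCat U) F ⋙ Stk.resSieve R 𝒴).EssSurj :=
    resSieve_comp_postF R F ▸ inferInstance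
  have : (Stk.resSieve R 𝒴).EssSurj := ⟨fun H => ⟨_, ⟨hes.1 H |>.choose_spec.some⟩⟩⟩
  exact { }

theorem isStackFor_iff_of_isEquivOver {U : C} (R : Sieve U) {F : 𝒳 ⥤ᵇ 𝒴}
    (hF : FibCat.IsEquivOver F) : Stk.IsStackFor R 𝒳 ↔ Stk.IsStackFor R 𝒴 := by
  refine ⟨isStackFor_of_isEquivOver R hF, ?_⟩
  obtain ⟨G, hG, -⟩ := isEquivOver_symm hF
  exact isStackFor_of_isEquivOver R hG

theorem isStack_iff_of_isEquivOver (J : GrothendieckTopology C) {F : 𝒳 ⥤ᵇ 𝒴}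
    (hF : FibCat.IsEquivOver F) : Stk.IsStack J 𝒳 ↔ Stk.IsStack J 𝒴 := by
  simp only [Stk.IsStack, isFibGrpd_iff_of_isEquivOver hF, isStackFor_iff_of_isEquivOver _ hF]

theorem isPrestack_iff_of_isEquivOver (J : GrothendieckTopology C) {F : 𝒳 ⥤ᵇ 𝒴}
    (hF : FibCat.IsEquivOver F) : Stk.IsPrestack J 𝒳 ↔ Stk.IsPrestack J 𝒴 := by
  simp only [Stk.IsPrestack, isFibGrpd_iff_of_isEquivOver hF, isPrestackFor_iff_of_isEquivOver _ hF]

theorem IsStackFor.isPrestackFor {U : C} {R : Sieve U} (h : Stk.IsStackFor R 𝒳) :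
    Stk.IsPrestackFor R 𝒳 :=
  have : (Stk.resSieve R 𝒳).IsEquivalence := h
  ⟨inferInstance, inferInstance⟩

theorem isPrestack_of_isStack {J : GrothendieckTopology C} (h : Stk.IsStack J 𝒳) :
    Stk.IsPrestack J 𝒳 :=
  ⟨h.1, fun _ R hR => IsStackFor.isPrestackFor (h.2 R hR)⟩

section fp

variable {F : 𝒳 ⥤ᵇ 𝒮} {G : 𝒴 ⥤ᵇ 𝒮}

theorem isPrestackFor_fp {U : C} (R : Sieve U) (hX : Stk.IsPrestackFor R 𝒳)
    (hY : Stk.IsPrestackFor R 𝒴) (hS : (Stk.resSieve R 𝒮).Faithful) :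
    Stk.IsPrestackFor R (FibCat.fp F G) := by
  obtain ⟨fX, gX⟩ := hX
  obtain ⟨fY, gY⟩ := hY
  refine ⟨⟨fun {H K} γ => ?_⟩, ⟨fun {H K} α β h => ?_⟩⟩
  · obtain ⟨a, ha⟩ := (Stk.resSieve R 𝒳).map_surjective
      (X := BasedFunctor.comp H (FibCat.fpFst F G)) (Y := BasedFunctor.comp K (FibCat.fpFst F G))
      (BasedCategory.whiskerRight γ (FibCat.fpFst F G))
    obtain ⟨b, hb⟩ := (Stk.resSieve R 𝒴).map_surjective
      (X := BasedFunctor.comp H (FibCat.fpSnd F G)) (Y := BasedFunctor.comp K (FibCat.fpSnd F G))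
      (BasedCategory.whiskerRight γ (FibCat.fpSnd F G))
    have w : (postF _ F).map a ≫ (whiskerLeftIso K (FibCat.fpIso F G)).hom
        = (whiskerLeftIso H (FibCat.fpIso F G)).hom ≫ (postF _ G).map b := by
      apply (Stk.resSieve R 𝒮).map_injective
      apply natTrans_ext
      intro x
      have h₁ : a.toNatTrans.app ((Stk.sieveIncl R).obj x) = (γ.toNatTrans.app x).hom.fst :=
        congrArg (fun t => t.toNatTrans.app x) ha
      have h₂ : b.toNatTrans.app ((Stk.sieveIncl R).obj x) = (γ.toNatTrans.app x).hom.snd :=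
        congrArg (fun t => t.toNatTrans.app x) hb
      show F.map (a.toNatTrans.app ((Stk.sieveIncl R).obj x)) ≫ _
        = _ ≫ G.map (b.toNatTrans.app ((Stk.sieveIncl R).obj x))
      rw [h₁, h₂]
      exact (γ.toNatTrans.app x).hom.w
    refine ⟨⟨⟨fun x => fpHom (a.toNatTrans.app x) (b.toNatTrans.app x)
        (congrArg (fun t => t.toNatTrans.app x) w),
      fun x y φ => fp_hom_ext (a.toNatTrans.naturality φ) (b.toNatTrans.naturality φ)⟩,
      fun x => IsVert.isHomLift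
        ((isVert_fp_iff _).2 (isVert_app a x)) (H.w_obj x)⟩, ?_⟩
    apply natTrans_ext
    intro x
    exact fp_hom_ext (congrArg (fun t => t.toNatTrans.app x) ha)
      (congrArg (fun t => t.toNatTrans.app x) hb)
  · apply natTrans_ext
    intro x
    have e₁ : (postF _ (FibCat.fpFst F G)).map α = (postF _ (FibCat.fpFst F G)).map β :=
      (Stk.resSieve R 𝒳).map_injective
        (congrArg (fun t => (postF _ (FibCat.fpFst F G)).map t) h)
    have e₂ : (postF _ (FibCat.fpSnd F G)).map α = (postF _ (FibCat.fpSnd F G)).map β :=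
      (Stk.resSieve R 𝒴).map_injective
        (congrArg (fun t => (postF _ (FibCat.fpSnd F G)).map t) h)
    exact fp_hom_ext (congrArg (fun t => t.toNatTrans.app x) e₁)
      (congrArg (fun t => t.toNatTrans.app x) e₂)

theorem isStackFor_fp {U : C} (R : Sieve U) (hX : Stk.IsStackFor R 𝒳)
    (hY : Stk.IsStackFor R 𝒴) (hS : Stk.IsPrestackFor R 𝒮) :
    Stk.IsStackFor R (FibCat.fp F G) := by
  obtain ⟨h1, h2⟩ := isPrestackFor_fp (F := F) (G := G) R (IsStackFor.isPrestackFor hX)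
    (IsStackFor.isPrestackFor hY) hS.2
  have : (Stk.resSieve R 𝒳).IsEquivalence := hX
  have : (Stk.resSieve R 𝒴).IsEquivalence := hY
  obtain ⟨h3, h4⟩ := hS
  have : (Stk.resSieve R (FibCat.fp F G)).EssSurj := ⟨fun H => by
    let H₁ : Stk.sieveCat R ⥤ᵇ 𝒳 := BasedFunctor.comp H (FibCat.fpFst F G)
    let H₂ : Stk.sieveCat R ⥤ᵇ 𝒴 := BasedFunctor.comp H (FibCat.fpSnd F G)
    let a := (Stk.resSieve R 𝒳).objPreimage H₁
    let b := (Stk.resSieve R 𝒴).objPreimage H₂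
    let ia : (Stk.resSieve R 𝒳).obj a ≅ H₁ := (Stk.resSieve R 𝒳).objObjPreimageIso H₁
    let ib : (Stk.resSieve R 𝒴).obj b ≅ H₂ := (Stk.resSieve R 𝒴).objObjPreimageIso H₂
    let m : (Stk.resSieve R 𝒮).obj (BasedFunctor.comp a F)
        ≅ (Stk.resSieve R 𝒮).obj (BasedFunctor.comp b G) :=
      (whiskerRightIso ia F).trans ((whiskerLeftIso H (FibCat.fpIso F G)).trans
        (whiskerRightIso ib G).symm)
    refine ⟨FibCat.fpLift a b ((Stk.resSieve R 𝒮).preimageIso m), ⟨fpIsoMk ia ib fun x => ?_⟩⟩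
    have hm : (isoApp ((Stk.resSieve R 𝒮).preimageIso m) ((Stk.sieveIncl R).obj x)).hom
        = (isoApp m x).hom :=
      congrArg (fun t => t.toNatTrans.app x) ((Stk.resSieve R 𝒮).map_preimage m.hom)
    show F.map (isoApp ia x).hom ≫ (H.obj x).obj.iso.hom
      = (isoApp ((Stk.resSieve R 𝒮).preimageIso m) ((Stk.sieveIncl R).obj x)).hom
        ≫ G.map (isoApp ib x).hom
    rw [hm]
    simp [m]
    erw [Category.comp_id]⟩
  exact { }

theorem isStack_fp (J : GrothendieckTopology C) (hX : Stk.IsStack J 𝒳) (hY : Stk.IsStack J 𝒴)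
    (hS : Stk.IsPrestack J 𝒮) : Stk.IsStack J (FibCat.fp F G) :=
  ⟨isFibGrpd_fp hX.1 hY.1 hS.1,
    fun _ R hR => isStackFor_fp R (hX.2 R hR) (hY.2 R hR) (hS.2 R hR)⟩

end fp

end Groth.StkBase
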