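import Groth.Agent.StkBase.Descent
import Mathlib.CategoryTheory.Limits.Types.Pullbacks

/-!
# Categories fibred in setoids are categories of presheaves; fibre products of these
-/

set_option autoImplicit false
set_option backward.isDefEq.respectTransparency false
set_option backward.isDefEq.respectTransparency.types false

universe w v₃ u₃ v₂ u₂ v u

open CategoryTheory CategoryTheory.Limits Opposite

namespace Groth.StkBase

variable {C : Type u} [Category.{v} C]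
variable {𝒳 : BasedCategory.{v₂, u₂} C}

/-- Two objects over `U` are related when a vertical morphism joins them. -/
def VertRel (𝒳 : BasedCategory.{v₂, u₂} C) (U : C) (a b : {x : 𝒳.obj // 𝒳.p.obj x = U}) : Prop :=
  ∃ φ : a.1 ⟶ b.1, IsVert 𝒳.p φ

theorem vertRel_equivalence (hX : FibCat.IsFibGrpd 𝒳.p) (U : C) : _root_.Equivalence (VertRel 𝒳 U) where
  refl a := ⟨𝟙 _, isVert_id _⟩
  symm := fun ⟨φ, hφ⟩ => by
    have := hφ.isIso hX
    exact ⟨inv φ, IsVert.inv (φ := asIso φ) hφ⟩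
  trans := fun ⟨φ, hφ⟩ ⟨ψ, hψ⟩ => ⟨φ ≫ ψ, hφ.comp hψ⟩

theorem vertRel_liftObj (hX : FibCat.IsFibGrpd 𝒳.p) {U V : C} (b : {x : 𝒳.obj // 𝒳.p.obj x = U})
    (f : V ⟶ U) {a : {x : 𝒳.obj // 𝒳.p.obj x = V}} (φ : a.1 ⟶ b.1)
    (hφ : 𝒳.p.map φ = eqToHom a.2 ≫ f ≫ eqToHom b.2.symm) :
    VertRel 𝒳 V a ⟨liftObj hX (x := b.1) (f ≫ eqToHom b.2.symm), liftObj_p hX _⟩ := by
  obtain ⟨i, hi, -⟩ := exists_vert_iso_of_lifts hX φ (liftMap hX (x := b.1) (f ≫ eqToHom b.2.symm))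
    (a.2.trans (liftObj_p hX _).symm) (by rw [hφ, liftMap_p]; simp)
  exact ⟨i.hom, hi⟩

/-- The presheaf of classes of objects. -/
noncomputable def clsPsh (hX : FibCat.IsFibGrpd 𝒳.p) : Cᵒᵖ ⥤ Type u₂ where
  obj U := Quot (VertRel 𝒳 U.unop)
  map {U V} f := ↾Quot.map (fun b => ⟨liftObj hX (x := b.1) (f.unop ≫ eqToHom b.2.symm), liftObj_p hX _⟩)
    (fun a b ⟨χ, hχ⟩ => vertRel_liftObj hX b f.unop
      (liftMap hX (x := a.1) (f.unop ≫ eqToHom a.2.symm) ≫ χ) (by simp [liftMap_p, hχ.map_eq]))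
  map_id U := by
    ext q
    induction q using Quot.ind with
    | _ a => exact (Quot.sound (vertRel_liftObj hX a _ (𝟙 a.1) (by simp))).symm
  map_comp {U V W} f g := by
    ext q
    induction q using Quot.ind with
    | _ a =>
      exact (Quot.sound (vertRel_liftObj hX a (f ≫ g).unop
        (a := ⟨liftObj hX (g.unop ≫ eqToHom (liftObj_p hX (x := a.1) (f.unop ≫ eqToHom a.2.symm)).symm),
          liftObj_p hX _⟩)
        (liftMap hX _ ≫ liftMap hX _) (by simp [liftMap_p]))).symm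

/-- The comparison functor to the presheaf of classes. -/
noncomputable def toClsPsh (hX : FibCat.IsFibGrpd 𝒳.p) : 𝒳 ⥤ᵇ Stk.ofPsh (clsPsh hX) where
  toFunctor :=
    { obj := fun a => (⟨𝒳.p.obj a, Quot.mk _ ⟨a, rfl⟩⟩ : Stk.EltObj (clsPsh hX))
      map := fun {a b} φ => (⟨𝒳.p.map φ,
        (Quot.sound (vertRel_liftObj hX ⟨b, rfl⟩ (𝒳.p.map φ) (a := ⟨a, rfl⟩) φ (by simp))).symm⟩ :
          Stk.EltObj.Hom _ _)
      map_id := fun a => Stk.EltObj.hom_ext (by exact 𝒳.p.map_id a)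
      map_comp := fun φ ψ => Stk.EltObj.hom_ext (by exact 𝒳.p.map_comp φ ψ) }
  w := rfl

theorem isEquivOver_toClsPsh (hX : FibCat.IsFibSetoid 𝒳.p) :
    FibCat.IsEquivOver (toClsPsh hX.1) := by
  refine isEquivOver_of_fullyFaithful _ ⟨fun {a b} g => ?_⟩ ⟨fun {a b} φ φ' e => ?_⟩ (fun y => ?_)
  · obtain ⟨χ, hχ⟩ := ((vertRel_equivalence hX.1 (𝒳.p.obj a)).quot_mk_eq_iff _ _).1 g.map_sec
    have hc : χ ≫ 𝟙 _ = χ := Category.comp_id χ
    have := hχ.isIso hX.1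
    refine ⟨inv χ ≫ liftMap hX.1 (x := b) (g.hom ≫ eqToHom (rfl : 𝒳.p.obj b = 𝒳.p.obj b)),
      elt_hom_ext_p ?_⟩
    show 𝒳.p.map _ = g.hom
    have h := (IsVert.inv (φ := asIso χ) hχ).map_eq
    simp only [asIso_inv] at h
    rw [Functor.map_comp, h, liftMap_p]
    simp

  · have hp : 𝒳.p.map φ = 𝒳.p.map φ' := congrArg (Stk.ofPsh (clsPsh hX.1)).p.map e
    obtain ⟨b', l, hb', hl⟩ := exists_lift' hX.1 (x := b) (𝒳.p.map φ)
    have hg : eqToHom hb'.symm ≫ 𝒳.p.map l = 𝒳.p.map φ := by simp [hl]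
    rw [← factor_comp hX.1 l φ _ hg, ← factor_comp hX.1 l φ' _ (hg.trans hp)]
    congr 1
    exact congrArg Subtype.val ((hX.2 (𝒳.p.obj a) ⟨a, rfl⟩ ⟨b', hb'⟩).elim
      ⟨factor hX.1 l φ _ hg, IsVert.isHomLift ⟨_, factor_map hX.1 _ _ _ hg⟩ rfl⟩
      ⟨factor hX.1 l φ' _ (hg.trans hp),
        IsVert.isHomLift ⟨_, factor_map hX.1 _ _ _ (hg.trans hp)⟩ rfl⟩)
  · obtain ⟨U, q⟩ := y
    induction q using Quot.ind with
    | _ a =>
      have key : ∀ (x : 𝒳.obj) (U : C) (hx : 𝒳.p.obj x = U), ∃ (x' : 𝒳.obj)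
          (φ : (toClsPsh hX.1).obj x' ≅ (⟨U, Quot.mk _ ⟨x, hx⟩⟩ : Stk.EltObj (clsPsh hX.1))),
          IsVert (Stk.ofPsh (clsPsh hX.1)).p φ.hom := by
        rintro x U rfl
        exact ⟨x, Iso.refl _, isVert_id _⟩
      exact key a.1 _ a.2

theorem exists_ofPsh_equiv (hX : FibCat.IsFibSetoid 𝒳.p) :
    ∃ (P : Cᵒᵖ ⥤ Type u₂) (e : Stk.ofPsh P ⥤ᵇ 𝒳), FibCat.IsEquivOver e := by
  obtain ⟨G, hG, -⟩ := isEquivOver_symm (isEquivOver_toClsPsh hX)
  exact ⟨_, G, hG⟩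

section Pullback

variable {A B D P : Cᵒᵖ ⥤ Type w} {a : A ⟶ D} {b : B ⟶ D} {fst : P ⟶ A} {snd : P ⟶ B}

/-- The comparison functor from a pullback presheaf to the 2-fibre product. -/
def pshFpLift (sq : fst ≫ a = snd ≫ b) :
    Stk.ofPsh P ⥤ᵇ FibCat.fp (Stk.ofPshMap a) (Stk.ofPshMap b) :=
  FibCat.fpLift (Stk.ofPshMap fst) (Stk.ofPshMap snd)
    (eqToIso (by rw [← ofPshMap_comp, ← ofPshMap_comp, sq]))

theorem isEquivOver_pshFpLift (h : IsPullback fst snd a b) :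
    FibCat.IsEquivOver (pshFpLift h.w) := by
  have hpt : ∀ T, IsPullback (fst.app T) (snd.app T) (a.app T) (b.app T) := fun T =>
    h.map ((evaluation _ _).obj T)
  refine isEquivOver_of_fullyFaithful _ ⟨fun {x y} g => ?_⟩ ⟨fun {x y} g g' e => ?_⟩ (fun y => ?_)
  · refine ⟨eltHom g.hom.fst.hom ?_, fp_hom_ext (elt_hom_ext_p rfl) (elt_hom_ext_p ?_)⟩
    · apply CategoryTheory.Limits.Types.ext_of_isPullback (hpt _)
      · rw [NatTrans.naturality_apply]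
        exact g.hom.fst.map_sec
      · rw [NatTrans.naturality_apply]
        have := g.hom.snd.map_sec
        have e : g.hom.snd.hom = g.hom.fst.hom := (fp_map_snd g).trans (by simp)
        rw [e] at this
        exact this
    · exact ((fp_map_snd g).trans (by simp; rfl)).symm
  · exact elt_hom_ext_p (congrArg (fun t => t.hom.fst.hom) e)
  · obtain ⟨⟨s, t, i⟩, hi⟩ := y
    obtain ⟨U, s⟩ := s
    obtain ⟨V, t⟩ := t
    have hv : IsVert (Stk.ofPsh D).p i.hom := isVert_of_isHomLift hi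
    obtain rfl : U = V := hv.obj_eq
    have hs : a.app _ s = b.app _ t := by
      have := i.hom.map_sec
      have e : i.hom.hom = 𝟙 U := hv.map_eq
      rw [e] at this
      simpa [Stk.ofPshMap] using this.symm
    obtain ⟨r, hr₁, hr₂⟩ := CategoryTheory.Limits.Types.exists_of_isPullback (hpt (op U)) s t hs
    let z : Stk.EltObj P := ⟨U, r⟩
    let i₁ : (Stk.ofPshMap fst).obj z ≅ (⟨U, s⟩ : Stk.EltObj A) := eqToIso (by
      show (⟨U, fst.app _ r⟩ : Stk.EltObj A) = ⟨U, s⟩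
      rw [hr₁])
    let i₂ : (Stk.ofPshMap snd).obj z ≅ (⟨U, t⟩ : Stk.EltObj B) := eqToIso (by
      show (⟨U, snd.app _ r⟩ : Stk.EltObj B) = ⟨U, t⟩
      rw [hr₂])
    have h₁ : IsVert (Stk.ofPsh A).p i₁.hom := by simp only [i₁, eqToIso.hom]; exact isVert_eqToHom _
    have h₂ : IsVert (Stk.ofPsh B).p i₂.hom := by simp only [i₂, eqToIso.hom]; exact isVert_eqToHom _
    refine ⟨z, fpObjIso i₁ i₂ (elt_hom_ext_p ?_), h₁⟩
    exact ((isVert_map (F := Stk.ofPshMap a) h₁).comp hv).map_eq.trans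
      ((fp_isVert ((pshFpLift h.w).obj z)).comp (isVert_map (F := Stk.ofPshMap b) h₂)).map_eq.symm

end Pullback

end Groth.StkBase
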