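import Groth.Agent.StkBase.Basic

/-!
# 2-fibre products over a base category: fibred in groupoids, invariance, symmetry, pasting
-/

set_option autoImplicit false
set_option backward.isDefEq.respectTransparency false
set_option backward.isDefEq.respectTransparency.types false

universe v₇ u₇ v₆ u₆ v₅ u₅ v₄ u₄ v₃ u₃ v₂ u₂ v u

open CategoryTheory CategoryTheory.Limits

namespace Groth.StkBase

variable {C : Type u} [Category.{v} C]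
variable {𝒳 : BasedCategory.{v₂, u₂} C} {𝒴 : BasedCategory.{v₃, u₃} C} {𝒮 : BasedCategory.{v₄, u₄} C}
  {𝒲 : BasedCategory.{v₅, u₅} C}

section Objects

variable {F : 𝒳 ⥤ᵇ 𝒮} {G : 𝒴 ⥤ᵇ 𝒮}

/-- An object of the 2-fibre product. -/
def fpMk (a : 𝒳.obj) (b : 𝒴.obj) (e : F.obj a ≅ G.obj b) (he : IsVert 𝒮.p e.hom) :
    (FibCat.fp F G).obj :=
  ⟨⟨a, b, e⟩, he.isHomLift (F.w_obj a)⟩

theorem fp_isVert (x : (FibCat.fp F G).obj) : IsVert 𝒮.p x.obj.iso.hom :=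
  isVert_of_isHomLift x.property

theorem fp_p_snd (x : (FibCat.fp F G).obj) : 𝒴.p.obj x.obj.snd = 𝒳.p.obj x.obj.fst :=
  (FibCat.fpSnd F G).w_obj x

theorem fp_map_snd {x y : (FibCat.fp F G).obj} (f : x ⟶ y) :
    𝒴.p.map f.hom.snd = eqToHom (fp_p_snd x) ≫ 𝒳.p.map f.hom.fst ≫ eqToHom (fp_p_snd y).symm :=
  map_map (FibCat.fpSnd F G) f

/-- A morphism of the 2-fibre product. -/
def fpHom {x y : (FibCat.fp F G).obj} (a : x.obj.fst ⟶ y.obj.fst) (b : x.obj.snd ⟶ y.obj.snd)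
    (w : F.map a ≫ y.obj.iso.hom = x.obj.iso.hom ≫ G.map b) : x ⟶ y :=
  ObjectProperty.homMk ⟨a, b, w⟩

theorem fp_hom_ext {x y : (FibCat.fp F G).obj} {f g : x ⟶ y} (h₁ : f.hom.fst = g.hom.fst)
    (h₂ : f.hom.snd = g.hom.snd) : f = g :=
  ObjectProperty.hom_ext _ (CategoricalPullback.hom_ext h₁ h₂)

/-- An isomorphism of the 2-fibre product. -/
def fpObjIso {x y : (FibCat.fp F G).obj} (a : x.obj.fst ≅ y.obj.fst) (b : x.obj.snd ≅ y.obj.snd)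
    (w : F.map a.hom ≫ y.obj.iso.hom = x.obj.iso.hom ≫ G.map b.hom) : x ≅ y where
  hom := fpHom a.hom b.hom w
  inv := ObjectProperty.homMk (CategoricalPullback.mkIso a b w).inv
  hom_inv_id := fp_hom_ext a.hom_inv_id b.hom_inv_id
  inv_hom_id := fp_hom_ext a.inv_hom_id b.inv_hom_id

theorem isVert_fp_iff {x y : (FibCat.fp F G).obj} (f : x ⟶ y) :
    IsVert (FibCat.fp F G).p f ↔ IsVert 𝒳.p f.hom.fst := Iff.rfl

@[simp] theorem isoApp_fpIso (x : (FibCat.fp F G).obj) : isoApp (FibCat.fpIso F G) x = x.obj.iso :=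
  Iso.ext rfl

@[simp] theorem fpLift_fst (a : 𝒲 ⥤ᵇ 𝒳) (b : 𝒲 ⥤ᵇ 𝒴)
    (e : BasedFunctor.comp a F ≅ BasedFunctor.comp b G) (w : 𝒲.obj) :
    ((FibCat.fpLift a b e).obj w).obj.fst = a.obj w := rfl

@[simp] theorem fpLift_iso (a : 𝒲 ⥤ᵇ 𝒳) (b : 𝒲 ⥤ᵇ 𝒴)
    (e : BasedFunctor.comp a F ≅ BasedFunctor.comp b G) (w : 𝒲.obj) :
    ((FibCat.fpLift a b e).obj w).obj.iso = isoApp e w := rfl

theorem fpLift_map_hom_fst (a : 𝒲 ⥤ᵇ 𝒳) (b : 𝒲 ⥤ᵇ 𝒴)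
    (e : BasedFunctor.comp a F ≅ BasedFunctor.comp b G) {w w' : 𝒲.obj} (g : w ⟶ w') :
    ((FibCat.fpLift a b e).map g).hom.fst = a.map g := rfl

@[simp] theorem fpLift_snd (a : 𝒲 ⥤ᵇ 𝒳) (b : 𝒲 ⥤ᵇ 𝒴)
    (e : BasedFunctor.comp a F ≅ BasedFunctor.comp b G) (w : 𝒲.obj) :
    ((FibCat.fpLift a b e).obj w).obj.snd = b.obj w := rfl

@[simp] theorem fpLift_map_fst (a : 𝒲 ⥤ᵇ 𝒳) (b : 𝒲 ⥤ᵇ 𝒴)
    (e : BasedFunctor.comp a F ≅ BasedFunctor.comp b G) {w w' : 𝒲.obj} (g : w ⟶ w') :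
    ((FibCat.fpLift a b e).map g).hom.fst = a.map g := rfl

@[simp] theorem fpLift_map_snd (a : 𝒲 ⥤ᵇ 𝒳) (b : 𝒲 ⥤ᵇ 𝒴)
    (e : BasedFunctor.comp a F ≅ BasedFunctor.comp b G) {w w' : 𝒲.obj} (g : w ⟶ w') :
    ((FibCat.fpLift a b e).map g).hom.snd = b.map g := rfl

@[simp] theorem fpFst_obj (x : (FibCat.fp F G).obj) : (FibCat.fpFst F G).obj x = x.obj.fst := rfl

@[simp] theorem fpSnd_obj (x : (FibCat.fp F G).obj) : (FibCat.fpSnd F G).obj x = x.obj.snd := rfl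

@[simp] theorem fpFst_map {x y : (FibCat.fp F G).obj} (f : x ⟶ y) :
    (FibCat.fpFst F G).map f = f.hom.fst := rfl

@[simp] theorem fpSnd_map {x y : (FibCat.fp F G).obj} (f : x ⟶ y) :
    (FibCat.fpSnd F G).map f = f.hom.snd := rfl

theorem isFibGrpd_fp (hX : FibCat.IsFibGrpd 𝒳.p) (hY : FibCat.IsFibGrpd 𝒴.p)
    (hS : FibCat.IsFibGrpd 𝒮.p) : FibCat.IsFibGrpd (FibCat.fp F G).p := by
  refine isFibGrpd_mk (fun {x V} f => ?_) (fun {z y x} φ ψ g hg => ?_)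
  · obtain ⟨a', φ, ha, hφ⟩ := exists_lift' hX (x := x.obj.fst) f
    obtain ⟨b', ψ, hb, hψ⟩ := exists_lift' hY (x := x.obj.snd) (f ≫ eqToHom (fp_p_snd x).symm)
    obtain ⟨i, hi, hi'⟩ := exists_vert_iso_of_lifts hS (F.map φ ≫ x.obj.iso.hom) (G.map ψ)
      ((((F.w_obj a').trans ha).trans hb.symm).trans (G.w_obj b').symm)
      (by simp [map_map, (fp_isVert x).map_eq, hφ, hψ])
    exact ⟨fpMk a' b' i hi, fpHom φ ψ hi'.symm, ha, hφ⟩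
  · have hg' : (eqToHom (fp_p_snd z) ≫ g ≫ eqToHom (fp_p_snd y).symm) ≫ 𝒴.p.map φ.hom.snd
        = 𝒴.p.map ψ.hom.snd := by
      have : g ≫ 𝒳.p.map φ.hom.fst = 𝒳.p.map ψ.hom.fst := hg
      simp [fp_map_snd, reassoc_of% this]
    let a := factor hX φ.hom.fst ψ.hom.fst g hg
    let b := factor hY φ.hom.snd ψ.hom.snd _ hg'
    have w : F.map a ≫ y.obj.iso.hom = z.obj.iso.hom ≫ G.map b := by
      apply hom_eq_of_comp_eq hS (G.map φ.hom.snd)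
      · simp [map_map, a, b, factor_map, (fp_isVert y).map_eq, (fp_isVert z).map_eq]
      · simp only [Category.assoc, a, b]
        rw [← φ.hom.w, ← G.toFunctor.map_comp, factor_comp, ← ψ.hom.w, ← F.toFunctor.map_comp_assoc,
          factor_comp]
    refine ⟨fpHom a b w, ⟨factor_map hX _ _ _ hg, fp_hom_ext (factor_comp hX _ _ _ hg)
      (factor_comp hY _ _ _ hg')⟩, ?_⟩
    rintro χ ⟨h1, h2⟩
    apply fp_hom_ext
    · apply hom_eq_of_comp_eq hX φ.hom.fst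
      · exact h1.trans (factor_map hX _ _ _ hg).symm
      · exact (congrArg (fun t => t.hom.fst) h2).trans (factor_comp hX _ _ _ hg).symm
    · apply hom_eq_of_comp_eq hY φ.hom.snd
      · rw [fp_map_snd, show 𝒳.p.map χ.hom.fst = g from h1]
        exact (factor_map hY _ _ _ hg').symm
      · exact (congrArg (fun t => t.hom.snd) h2).trans (factor_comp hY _ _ _ hg').symm

theorem fp_isFibSetoid (hX : FibCat.IsFibSetoid 𝒳.p) (hY : FibCat.IsFibSetoid 𝒴.p)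
    (hS : FibCat.IsFibGrpd 𝒮.p) : FibCat.IsFibSetoid (FibCat.fp F G).p := by
  refine ⟨isFibGrpd_fp hX.1 hY.1 hS, fun U a b => ⟨fun f g => ?_⟩⟩
  have hf := isVert_of_isHomLift f.2
  have hg := isVert_of_isHomLift g.2
  apply Subtype.ext
  apply fp_hom_ext
  · exact congrArg Subtype.val ((hX.2 U ⟨a.1.obj.fst, a.2⟩ ⟨b.1.obj.fst, b.2⟩).elim
      ⟨f.1.hom.fst, ((isVert_fp_iff f.1).1 hf).isHomLift a.2⟩
      ⟨g.1.hom.fst, ((isVert_fp_iff g.1).1 hg).isHomLift a.2⟩)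
  · exact congrArg Subtype.val ((hY.2 U ⟨a.1.obj.snd, (fp_p_snd a.1).trans a.2⟩
        ⟨b.1.obj.snd, (fp_p_snd b.1).trans b.2⟩).elim
      ⟨f.1.hom.snd, (isVert_map (F := FibCat.fpSnd F G) hf).isHomLift ((fp_p_snd a.1).trans a.2)⟩
      ⟨g.1.hom.snd, (isVert_map (F := FibCat.fpSnd F G) hg).isHomLift ((fp_p_snd a.1).trans a.2)⟩)

end Objects

section Functors

variable {F : 𝒳 ⥤ᵇ 𝒮} {G : 𝒴 ⥤ᵇ 𝒮}

/-- A 2-isomorphism between functors into a 2-fibre product. -/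
def fpIsoMk {H K : 𝒲 ⥤ᵇ FibCat.fp F G}
    (α : BasedFunctor.comp H (FibCat.fpFst F G) ≅ BasedFunctor.comp K (FibCat.fpFst F G))
    (β : BasedFunctor.comp H (FibCat.fpSnd F G) ≅ BasedFunctor.comp K (FibCat.fpSnd F G))
    (w : ∀ x, F.map (isoApp α x).hom ≫ (K.obj x).obj.iso.hom
      = (H.obj x).obj.iso.hom ≫ G.map (isoApp β x).hom) : H ≅ K :=
  isoMk (fun x => fpObjIso (isoApp α x) (isoApp β x) (w x))
    (fun φ => fp_hom_ext (isoApp_naturality α φ) (isoApp_naturality β φ))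
    (fun x => isVert_isoApp α x)

@[simp] theorem isoApp_fpIsoMk_fst {H K : 𝒲 ⥤ᵇ FibCat.fp F G}
    (α : BasedFunctor.comp H (FibCat.fpFst F G) ≅ BasedFunctor.comp K (FibCat.fpFst F G))
    (β : BasedFunctor.comp H (FibCat.fpSnd F G) ≅ BasedFunctor.comp K (FibCat.fpSnd F G))
    (w : ∀ x, F.map (isoApp α x).hom ≫ (K.obj x).obj.iso.hom
      = (H.obj x).obj.iso.hom ≫ G.map (isoApp β x).hom) (x : 𝒲.obj) :
    (isoApp (fpIsoMk α β w) x).hom.hom.fst = (isoApp α x).hom := rfl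

@[simp] theorem isoApp_fpIsoMk_snd {H K : 𝒲 ⥤ᵇ FibCat.fp F G}
    (α : BasedFunctor.comp H (FibCat.fpFst F G) ≅ BasedFunctor.comp K (FibCat.fpFst F G))
    (β : BasedFunctor.comp H (FibCat.fpSnd F G) ≅ BasedFunctor.comp K (FibCat.fpSnd F G))
    (w : ∀ x, F.map (isoApp α x).hom ≫ (K.obj x).obj.iso.hom
      = (H.obj x).obj.iso.hom ≫ G.map (isoApp β x).hom) (x : 𝒲.obj) :
    (isoApp (fpIsoMk α β w) x).hom.hom.snd = (isoApp β x).hom := rfl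

/-- The functor between 2-fibre products induced by isomorphic legs. -/
def fpCongr {F' : 𝒳 ⥤ᵇ 𝒮} {G' : 𝒴 ⥤ᵇ 𝒮} (α : F ≅ F') (β : G ≅ G') :
    FibCat.fp F G ⥤ᵇ FibCat.fp F' G' :=
  FibCat.fpLift (FibCat.fpFst F G) (FibCat.fpSnd F G)
    ((whiskerLeftIso (FibCat.fpFst F G) α.symm).trans
      ((FibCat.fpIso F G).trans (whiskerLeftIso (FibCat.fpSnd F G) β)))

theorem isEquivOver_fpCongr {F' : 𝒳 ⥤ᵇ 𝒮} {G' : 𝒴 ⥤ᵇ 𝒮} (α : F ≅ F') (β : G ≅ G') :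
    FibCat.IsEquivOver (fpCongr α β) := by
  refine ⟨fpCongr α.symm β.symm, ⟨fpIsoMk (Iso.refl _) (Iso.refl _) fun x => ?_⟩,
    ⟨fpIsoMk (Iso.refl _) (Iso.refl _) fun x => ?_⟩⟩ <;>
  simp [fpCongr]

/-- The symmetry of the 2-fibre product. -/
def fpSwap (F : 𝒳 ⥤ᵇ 𝒮) (G : 𝒴 ⥤ᵇ 𝒮) : FibCat.fp F G ⥤ᵇ FibCat.fp G F :=
  FibCat.fpLift (FibCat.fpSnd F G) (FibCat.fpFst F G) (FibCat.fpIso F G).symm

theorem isEquivOver_fpSwap (F : 𝒳 ⥤ᵇ 𝒮) (G : 𝒴 ⥤ᵇ 𝒮) : FibCat.IsEquivOver (fpSwap F G) := by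
  refine ⟨fpSwap G F, ⟨fpIsoMk (Iso.refl _) (Iso.refl _) fun x => ?_⟩,
    ⟨fpIsoMk (Iso.refl _) (Iso.refl _) fun x => ?_⟩⟩ <;>
  simp [fpSwap]

end Functors

section Legs

variable {𝒳' : BasedCategory.{v₆, u₆} C} {𝒴' : BasedCategory.{v₇, u₇} C}

/-- The functor `𝒳' ×_𝒮 𝒴' ⟶ 𝒳 ×_𝒮 𝒴` induced by functors on the legs. -/
def fpPre (a : 𝒳' ⥤ᵇ 𝒳) (b : 𝒴' ⥤ᵇ 𝒴) (F : 𝒳 ⥤ᵇ 𝒮) (G : 𝒴 ⥤ᵇ 𝒮) :
    FibCat.fp (BasedFunctor.comp a F) (BasedFunctor.comp b G) ⥤ᵇ FibCat.fp F G :=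
  FibCat.fpLift (BasedFunctor.comp (FibCat.fpFst _ _) a) (BasedFunctor.comp (FibCat.fpSnd _ _) b)
    (FibCat.fpIso (BasedFunctor.comp a F) (BasedFunctor.comp b G))

theorem isEquivOver_fpPre {a : 𝒳' ⥤ᵇ 𝒳} {b : 𝒴' ⥤ᵇ 𝒴} (ha : FibCat.IsEquivOver a)
    (hb : FibCat.IsEquivOver b) (F : 𝒳 ⥤ᵇ 𝒮) (G : 𝒴 ⥤ᵇ 𝒮) :
    FibCat.IsEquivOver (fpPre a b F G) := by
  have := full_of_isEquivOver ha
  have := faithful_of_isEquivOver ha
  have := full_of_isEquivOver hb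
  have := faithful_of_isEquivOver hb
  refine isEquivOver_of_fullyFaithful _ ⟨fun {x y} f => ?_⟩ ⟨fun {x y} f g h => ?_⟩ (fun y => ?_)
  · have w := f.hom.w
    refine ⟨fpHom (a.toFunctor.preimage f.hom.fst) (b.toFunctor.preimage f.hom.snd) ?_, ?_⟩
    · simpa [BasedFunctor.comp, fpPre, FibCat.fpLift, isoApp, FibCat.fpIso,
        BasedNatIso.mkNatIso] using w
    · exact fp_hom_ext (a.toFunctor.map_preimage _) (b.toFunctor.map_preimage _)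
  · exact fp_hom_ext (a.toFunctor.map_injective (congrArg (fun t => t.hom.fst) h))
      (b.toFunctor.map_injective (congrArg (fun t => t.hom.snd) h))
  · obtain ⟨x₁, e₁, h₁⟩ := exists_vert_preimage ha y.obj.fst
    obtain ⟨x₂, e₂, h₂⟩ := exists_vert_preimage hb y.obj.snd
    refine ⟨fpMk x₁ x₂ (F.toFunctor.mapIso e₁ ≪≫ y.obj.iso ≪≫ (G.toFunctor.mapIso e₂).symm) ?_,
      fpObjIso e₁ e₂ ?_, h₁⟩
    · exact (isVert_map h₁).comp ((fp_isVert y).comp (IsVert.inv (φ := G.toFunctor.mapIso e₂) (isVert_map h₂)))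
    · simp [fpMk, fpPre, FibCat.fpLift, FibCat.fpIso, BasedNatIso.mkNatIso, BasedFunctor.comp,
        FibCat.fpFst, FibCat.fpSnd]

/-- The functor `𝒳 ×_𝒮 𝒴 ⟶ 𝒳 ×_𝒯 𝒴` induced by a functor `c : 𝒮 ⟶ 𝒯`. -/
def fpPost (F : 𝒳 ⥤ᵇ 𝒮) (G : 𝒴 ⥤ᵇ 𝒮) (c : 𝒮 ⥤ᵇ 𝒲) :
    FibCat.fp F G ⥤ᵇ FibCat.fp (BasedFunctor.comp F c) (BasedFunctor.comp G c) :=
  FibCat.fpLift (FibCat.fpFst F G) (FibCat.fpSnd F G) (whiskerRightIso (FibCat.fpIso F G) c)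

theorem isEquivOver_fpPost (F : 𝒳 ⥤ᵇ 𝒮) (G : 𝒴 ⥤ᵇ 𝒮) (c : 𝒮 ⥤ᵇ 𝒲) [c.toFunctor.Full]
    [c.toFunctor.Faithful] : FibCat.IsEquivOver (fpPost F G c) := by
  refine isEquivOver_of_fullyFaithful _ ⟨fun {x y} f => ?_⟩ ⟨fun {x y} f g h => ?_⟩ (fun y => ?_)
  · have w := f.hom.w
    refine ⟨fpHom f.hom.fst f.hom.snd (c.toFunctor.map_injective ?_), rfl⟩
    simpa [BasedFunctor.comp, fpPost, FibCat.fpLift, isoApp, FibCat.fpIso, whiskerRightIso, isoMk,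
        BasedNatIso.mkNatIso, FibCat.fpFst, FibCat.fpSnd] using w
  · have h₁ := congrArg (fun t => t.hom.fst) h
    have h₂ := congrArg (fun t => t.hom.snd) h
    exact fp_hom_ext h₁ h₂
  · refine ⟨fpMk y.obj.fst y.obj.snd (c.toFunctor.preimageIso y.obj.iso)
      (isVert_of_map (F := c) ?_), fpObjIso (Iso.refl _) (Iso.refl _) ?_, isVert_id _⟩
    · simpa using fp_isVert y
    · simp [fpMk, fpPost, FibCat.fpLift, FibCat.fpIso, BasedNatIso.mkNatIso, BasedFunctor.comp,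
        FibCat.fpFst, FibCat.fpSnd, isoApp, whiskerRightIso, isoMk]

end Legs

section Paste

variable {𝒵 : BasedCategory.{v₆, u₆} C} (h : 𝒲 ⥤ᵇ 𝒵) (g : 𝒵 ⥤ᵇ 𝒮) (f : 𝒳 ⥤ᵇ 𝒮)

/-- Pasting: `𝒲 ×_𝒵 (𝒵 ×_𝒮 𝒳) ⟶ 𝒲 ×_𝒮 𝒳`. -/
def fpPaste : FibCat.fp h (FibCat.fpFst g f) ⥤ᵇ FibCat.fp (BasedFunctor.comp h g) f :=
  FibCat.fpLift (FibCat.fpFst h (FibCat.fpFst g f))
    (BasedFunctor.comp (FibCat.fpSnd h (FibCat.fpFst g f)) (FibCat.fpSnd g f))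
    ((whiskerRightIso (FibCat.fpIso h (FibCat.fpFst g f)) g).trans
      (whiskerLeftIso (FibCat.fpSnd h (FibCat.fpFst g f)) (FibCat.fpIso g f)))

/-- The inverse of the pasting functor. -/
def fpUnpaste : FibCat.fp (BasedFunctor.comp h g) f ⥤ᵇ FibCat.fp h (FibCat.fpFst g f) :=
  FibCat.fpLift (FibCat.fpFst (BasedFunctor.comp h g) f)
    (FibCat.fpLift (BasedFunctor.comp (FibCat.fpFst (BasedFunctor.comp h g) f) h)
      (FibCat.fpSnd (BasedFunctor.comp h g) f) (FibCat.fpIso (BasedFunctor.comp h g) f))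
    (Iso.refl _)

theorem isEquivOver_fpPaste : FibCat.IsEquivOver (fpPaste h g f) := by
  refine ⟨fpUnpaste h g f,
    ⟨fpIsoMk (Iso.refl _) (fpIsoMk (FibCat.fpIso h (FibCat.fpFst g f)) (Iso.refl _) fun x => ?_)
      fun x => ?_⟩,
    ⟨fpIsoMk (Iso.refl _) (Iso.refl _) fun x => ?_⟩⟩ <;>
  simp [fpPaste, fpUnpaste]

/-- The inverse pasting functor is an equivalence. -/
theorem isEquivOver_fpUnpaste : FibCat.IsEquivOver (fpUnpaste h g f) :=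
  ⟨fpPaste h g f,
    ⟨fpIsoMk (Iso.refl _) (Iso.refl _) fun x => by simp [fpPaste, fpUnpaste]⟩,
    ⟨fpIsoMk (Iso.refl _) (fpIsoMk (FibCat.fpIso h (FibCat.fpFst g f)) (Iso.refl _) fun x => by
      simp [fpPaste, fpUnpaste]) fun x => by simp [fpPaste, fpUnpaste]⟩⟩

end Paste

section Unit

variable (F : 𝒳 ⥤ᵇ 𝒮)

theorem isEquivOver_fpSnd_id : FibCat.IsEquivOver (FibCat.fpSnd (BasedFunctor.id 𝒮) F) := by
  refine ⟨FibCat.fpLift F (BasedFunctor.id 𝒳) (Iso.refl _),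
    ⟨fpIsoMk (FibCat.fpIso (BasedFunctor.id 𝒮) F).symm (Iso.refl _) fun x => ?_⟩, ⟨Iso.refl _⟩⟩
  simp

theorem isEquivOver_fpFst_id : FibCat.IsEquivOver (FibCat.fpFst F (BasedFunctor.id 𝒮)) := by
  refine ⟨FibCat.fpLift (BasedFunctor.id 𝒳) F (Iso.refl _),
    ⟨fpIsoMk (Iso.refl _) (FibCat.fpIso F (BasedFunctor.id 𝒮)) fun x => ?_⟩, ⟨Iso.refl _⟩⟩
  simp

end Unit

end Groth.StkBase
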