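import Groth.Agent.StkBase.FibProd

/-!
# The 2-Yoneda lemma for categories fibred in groupoids: functors out of slices
-/

set_option autoImplicit false
set_option backward.isDefEq.respectTransparency false
set_option backward.isDefEq.respectTransparency.types false

universe v₄ u₄ v₃ u₃ v₂ u₂ v u

open CategoryTheory CategoryTheory.Limits

namespace Groth.StkBase

variable {C : Type u} [Category.{v} C]
variable {𝒳 : BasedCategory.{v₂, u₂} C} {𝒴 : BasedCategory.{v₃, u₃} C}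

/-- The terminal object of the slice. -/
abbrev idObj (U : C) : (FibCat.overCat U).obj := Over.mk (𝟙 U)

/-- The morphism to the terminal object of the slice. -/
abbrev toId {U : C} (g : (FibCat.overCat U).obj) : g ⟶ idObj U :=
  Over.homMk g.hom (Category.comp_id _)

theorem toId_naturality {U : C} {g g' : (FibCat.overCat U).obj} (a : g ⟶ g') :
    a ≫ toId g' = toId g := Over.OverMorphism.ext (Over.w a)

theorem toId_idObj (U : C) : toId (idObj U) = 𝟙 _ := rfl

theorem overCat_map {U : C} {g g' : (FibCat.overCat U).obj} (a : g ⟶ g') :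
    (FibCat.overCat U).p.map a = a.left := rfl

@[simp] theorem overCat_id_left {U : C} (g : (FibCat.overCat U).obj) :
    Over.Hom.left (𝟙 g) = 𝟙 g.left := rfl

@[simp] theorem overCat_comp_left {U : C} {g g' g'' : (FibCat.overCat U).obj} (a : g ⟶ g')
    (b : g' ⟶ g'') : Over.Hom.left (a ≫ b) = a.left ≫ b.left := rfl

theorem isFibGrpd_overCat (U : C) : FibCat.IsFibGrpd (FibCat.overCat U).p := by
  refine isFibGrpd_mk (fun {x V} f => ⟨Over.mk (f ≫ x.hom), Over.homMk f rfl, rfl, ?_⟩)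
    (fun {z y x} φ ψ g hg => ?_)
  · exact (Category.id_comp f).symm
  · have hg' : g ≫ φ.left = ψ.left := hg
    refine ⟨Over.homMk g ?_, ⟨rfl, Over.OverMorphism.ext hg'⟩, ?_⟩
    · show g ≫ y.hom = z.hom
      rw [← Over.w φ, ← Over.w ψ, reassoc_of% hg']
    · rintro χ ⟨h, -⟩
      exact Over.OverMorphism.ext h

theorem isFibSetoid_overCat (U : C) : FibCat.IsFibSetoid (FibCat.overCat U).p := by
  refine ⟨isFibGrpd_overCat U, fun V a b => ⟨fun f g => Subtype.ext (Over.OverMorphism.ext ?_)⟩⟩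
  have hf := (isVert_of_isHomLift f.2).map_eq
  have hg := (isVert_of_isHomLift g.2).map_eq
  exact hf.trans hg.symm

section Functor

variable (hX : FibCat.IsFibGrpd 𝒳.p) (x : 𝒳.obj) {U : C} (h : 𝒳.p.obj x = U)

/-- The functor `C/U ⟶ 𝒳` attached to an object over `U`. -/
noncomputable def overFunctor : FibCat.overCat U ⥤ᵇ 𝒳 where
  toFunctor :=
    { obj := fun g => liftObj hX (x := x) (g.hom ≫ eqToHom h.symm)
      map := fun {g g'} a => factor hX (liftMap hX (x := x) (g'.hom ≫ eqToHom h.symm))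
        (liftMap hX (x := x) (g.hom ≫ eqToHom h.symm))
        (eqToHom (liftObj_p hX _) ≫ a.left ≫ eqToHom (liftObj_p hX _).symm)
        (by
          have := Over.w a
          simp [liftMap_p, reassoc_of% this])
      map_id := fun g => by
        apply hom_eq_of_comp_eq hX (liftMap hX (x := x) (g.hom ≫ eqToHom h.symm))
        · simp [factor_map]
        · simp [factor_comp]
      map_comp := fun {g g' g''} a b => by
        apply hom_eq_of_comp_eq hX (liftMap hX (x := x) (g''.hom ≫ eqToHom h.symm))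
        · simp [factor_map]
          erw [overCat_comp_left]
          simp
        · simp [factor_comp] }
  w := Functor.ext (fun g => liftObj_p hX _) (fun g g' a => by
    simp only [Functor.comp_map]
    rw [factor_map]
    rfl)

theorem overFunctor_eval :
    ∃ i : (overFunctor hX x h).obj (idObj U) ≅ x, IsVert 𝒳.p i.hom := by
  have hv : IsVert 𝒳.p (liftMap hX (x := x) ((idObj U).hom ≫ eqToHom h.symm)) :=
    ⟨(liftObj_p hX _).trans h.symm, by simp [liftMap_p]⟩
  have := hv.isIso hX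
  exact ⟨@asIso _ _ _ _ (liftMap hX (x := x) ((idObj U).hom ≫ eqToHom h.symm)) this, hv⟩

end Functor

theorem natTrans_ext_idObj (hX : FibCat.IsFibGrpd 𝒳.p) {U : C}
    {G G' : FibCat.overCat U ⥤ᵇ 𝒳} {α β : G ⟶ G'}
    (h : α.toNatTrans.app (idObj U) = β.toNatTrans.app (idObj U)) : α = β := by
  apply natTrans_ext
  intro g
  apply hom_eq_of_comp_eq hX (G'.map (toId g))
  · rw [(isVert_app α g).map_eq, (isVert_app β g).map_eq]
  · have h₁ := α.toNatTrans.naturality (toId g)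
    have h₂ := β.toNatTrans.naturality (toId g)
    rw [← h₁, ← h₂, h]

theorem exists_natTrans_of_eval (hX : FibCat.IsFibGrpd 𝒳.p) {U : C}
    (G G' : FibCat.overCat U ⥤ᵇ 𝒳) (ψ : G.obj (idObj U) ⟶ G'.obj (idObj U)) (hψ : IsVert 𝒳.p ψ) :
    ∃ α : G ⟶ G', α.toNatTrans.app (idObj U) = ψ := by
  have hg : ∀ g : (FibCat.overCat U).obj,
      eqToHom ((G.w_obj g).trans (G'.w_obj g).symm) ≫ 𝒳.p.map (G'.map (toId g))
        = 𝒳.p.map (G.map (toId g) ≫ ψ) := fun g => by
    simp [map_map, hψ.map_eq]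
  let c : ∀ g, G.obj g ⟶ G'.obj g := fun g => factor hX (G'.map (toId g)) (G.map (toId g) ≫ ψ) _ (hg g)
  have hc₁ : ∀ g, IsVert 𝒳.p (c g) := fun g => ⟨_, factor_map hX _ _ _ (hg g)⟩
  have hc₂ : ∀ g, c g ≫ G'.map (toId g) = G.map (toId g) ≫ ψ := fun g => factor_comp hX _ _ _ (hg g)
  have nat : ∀ ⦃g g' : (FibCat.overCat U).obj⦄ (a : g ⟶ g'), G.map a ≫ c g' = c g ≫ G'.map a := by
    intro g g' a
    apply hom_eq_of_comp_eq hX (G'.map (toId g'))
    · simp [map_map, (hc₁ g).map_eq, (hc₁ g').map_eq]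
    · rw [Category.assoc, Category.assoc, hc₂, ← G'.toFunctor.map_comp, toId_naturality, hc₂,
        ← G.toFunctor.map_comp_assoc, toId_naturality]
  refine ⟨⟨⟨c, nat⟩, fun g => (hc₁ g).isHomLift (G.w_obj g)⟩, ?_⟩
  apply hom_eq_of_comp_eq hX (G'.map (toId (idObj U)))
  · show 𝒳.p.map (c (idObj U)) = _
    rw [(hc₁ _).map_eq, hψ.map_eq]
  · show c (idObj U) ≫ _ = _
    rw [hc₂, toId_idObj]
    simp

theorem exists_overIso (hX : FibCat.IsFibGrpd 𝒳.p) {U : C} (G G' : FibCat.overCat U ⥤ᵇ 𝒳)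
    (ψ : G.obj (idObj U) ⟶ G'.obj (idObj U)) (hψ : IsVert 𝒳.p ψ) :
    ∃ e : G ≅ G', (isoApp e (idObj U)).hom = ψ := by
  obtain ⟨α, hα⟩ := exists_natTrans_of_eval hX G G' ψ hψ
  have := natTrans_isIso hX α
  exact ⟨asIso α, hα⟩

theorem nonempty_overIso_iff (hX : FibCat.IsFibGrpd 𝒳.p) {U : C} (G G' : FibCat.overCat U ⥤ᵇ 𝒳) :
    Nonempty (G ≅ G') ↔ ∃ ψ : G.obj (idObj U) ⟶ G'.obj (idObj U), IsVert 𝒳.p ψ :=
  ⟨fun ⟨e⟩ => ⟨_, isVert_isoApp e _⟩, fun ⟨ψ, hψ⟩ => ⟨(exists_overIso hX G G' ψ hψ).choose⟩⟩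

/-- Composition with an arrow of the base. -/
def overPostMap {U V : C} (h : V ⟶ U) : FibCat.overCat V ⥤ᵇ FibCat.overCat U where
  toFunctor := Over.map h
  w := rfl

/-- The morphism `(h_* G)(id_V) ⟶ G(id_U)` over `h`. -/
def overPostMapHom {U V : C} (h : V ⟶ U) (G : FibCat.overCat U ⥤ᵇ 𝒳) :
    (BasedFunctor.comp (overPostMap h) G).obj (idObj V) ⟶ G.obj (idObj U) :=
  G.map (toId ((Over.map h).obj (idObj V)))

theorem overPostMapHom_p {U V : C} (h : V ⟶ U) (G : FibCat.overCat U ⥤ᵇ 𝒳) :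
    𝒳.p.map (overPostMapHom h G)
      = eqToHom (G.w_obj _) ≫ h ≫ eqToHom (G.w_obj (idObj U)).symm := by
  have : (toId ((Over.map h).obj (idObj V))).left = h := Category.id_comp h
  rw [overPostMapHom, map_map, overCat_map, this]

theorem nonempty_iso_overPostMap_iff (hX : FibCat.IsFibGrpd 𝒳.p) {U V : C} (h : V ⟶ U)
    (G : FibCat.overCat U ⥤ᵇ 𝒳) (H : FibCat.overCat V ⥤ᵇ 𝒳) :
    Nonempty (H ≅ BasedFunctor.comp (overPostMap h) G) ↔
      ∃ φ : H.obj (idObj V) ⟶ G.obj (idObj U),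
        𝒳.p.map φ = eqToHom (H.w_obj _) ≫ h ≫ eqToHom (G.w_obj (idObj U)).symm := by
  rw [nonempty_overIso_iff hX]
  constructor
  · rintro ⟨ψ, hψ⟩
    refine ⟨ψ ≫ overPostMapHom h G, ?_⟩
    rw [Functor.map_comp, overPostMapHom_p]
    simp [hψ.map_eq]
  · rintro ⟨φ, hφ⟩
    obtain ⟨i, hi, -⟩ := exists_vert_iso_of_lifts hX φ (overPostMapHom h G)
      ((H.w_obj _).trans ((BasedFunctor.comp (overPostMap h) G).w_obj (idObj V)).symm)
      (by rw [hφ, overPostMapHom_p]; simp)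
    exact ⟨i.hom, hi⟩

end Groth.StkBase
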