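import Groth.Agent.StkBase.Stack

/-!
# Full faithfulness through functors out of slices; setoids
-/

set_option autoImplicit false
set_option backward.isDefEq.respectTransparency false
set_option backward.isDefEq.respectTransparency.types false

universe v₅ u₅ v₄ u₄ v₃ u₃ v₂ u₂ v u

open CategoryTheory CategoryTheory.Limits

namespace Groth.StkBase

variable {C : Type u} [Category.{v} C]
variable {𝒳 : BasedCategory.{v₂, u₂} C} {𝒴 : BasedCategory.{v₃, u₃} C}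

theorem isFibSetoid_of_faithful (hX : FibCat.IsFibGrpd 𝒳.p) (F : 𝒳 ⥤ᵇ 𝒴) [F.toFunctor.Faithful]
    (hY : FibCat.IsFibSetoid 𝒴.p) : FibCat.IsFibSetoid 𝒳.p := by
  refine ⟨hX, fun U a b => ⟨fun f g => Subtype.ext (F.toFunctor.map_injective ?_)⟩⟩
  exact congrArg Subtype.val ((hY.2 U ⟨F.obj a.1, (F.w_obj _).trans a.2⟩
      ⟨F.obj b.1, (F.w_obj _).trans b.2⟩).elim
    ⟨F.map f.1, (isVert_map (isVert_of_isHomLift f.2)).isHomLift ((F.w_obj _).trans a.2)⟩
    ⟨F.map g.1, (isVert_map (isVert_of_isHomLift g.2)).isHomLift ((F.w_obj _).trans a.2)⟩)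

theorem isFibSetoid_iff_of_isEquivOver {F : 𝒳 ⥤ᵇ 𝒴} (hF : FibCat.IsEquivOver F) :
    FibCat.IsFibSetoid 𝒳.p ↔ FibCat.IsFibSetoid 𝒴.p := by
  constructor
  · intro h
    obtain ⟨G, hG, -⟩ := isEquivOver_symm hF
    have := faithful_of_isEquivOver hG
    exact isFibSetoid_of_faithful (isFibGrpd_of_isEquivOver hF h.1) G h
  · intro h
    have := faithful_of_isEquivOver hF
    exact isFibSetoid_of_faithful ((isFibGrpd_iff_of_isEquivOver hF).2 h.1) F h

theorem fullyFaithful_of_postF (hX : FibCat.IsFibGrpd 𝒳.p) (hY : FibCat.IsFibGrpd 𝒴.p)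
    (F : 𝒳 ⥤ᵇ 𝒴)
    (h : ∀ U : C, (postF (FibCat.overCat U) F).Full ∧ (postF (FibCat.overCat U) F).Faithful) :
    F.toFunctor.Full ∧ F.toFunctor.Faithful := by
  -- vertical morphisms
  have hvf : ∀ {a b : 𝒳.obj} (ψ : F.obj a ⟶ F.obj b), IsVert 𝒴.p ψ →
      ∃ χ : a ⟶ b, IsVert 𝒳.p χ ∧ F.map χ = ψ := by
    intro a b ψ hψ
    have hb : 𝒳.p.obj b = 𝒳.p.obj a := by rw [← F.w_obj a, ← F.w_obj b, hψ.obj_eq]
    obtain ⟨ia, hia⟩ := overFunctor_eval hX a rfl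
    obtain ⟨ib, hib⟩ := overFunctor_eval hX b hb
    let Ga := overFunctor hX a rfl
    let Gb := overFunctor hX b hb
    obtain ⟨β, hβ⟩ := exists_natTrans_of_eval hY (BasedFunctor.comp Ga F) (BasedFunctor.comp Gb F)
      (F.map ia.hom ≫ ψ ≫ F.map ib.inv)
      ((isVert_map hia).comp (hψ.comp (isVert_map hib.inv)))
    obtain ⟨α, rfl⟩ := (h (𝒳.p.obj a)).1.map_surjective (X := Ga) (Y := Gb) β
    refine ⟨ia.inv ≫ α.toNatTrans.app (idObj _) ≫ ib.hom,
      hia.inv.comp ((isVert_app α _).comp hib), ?_⟩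
    rw [postF_map_app] at hβ
    simp only [Functor.map_comp]
    erw [reassoc_of% hβ]
    simp [← Functor.map_comp]
  have hvi : ∀ {a b : 𝒳.obj} (χ χ' : a ⟶ b), IsVert 𝒳.p χ → IsVert 𝒳.p χ' →
      F.map χ = F.map χ' → χ = χ' := by
    intro a b χ χ' hχ hχ' he
    obtain ⟨ia, hia⟩ := overFunctor_eval hX a rfl
    obtain ⟨ib, hib⟩ := overFunctor_eval hX b hχ.obj_eq.symm
    let Ga := overFunctor hX a rfl
    let Gb := overFunctor hX b hχ.obj_eq.symm
    obtain ⟨α, hα⟩ := exists_natTrans_of_eval hX Ga Gb (ia.hom ≫ χ ≫ ib.inv)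
      (hia.comp (hχ.comp hib.inv))
    obtain ⟨α', hα'⟩ := exists_natTrans_of_eval hX Ga Gb (ia.hom ≫ χ' ≫ ib.inv)
      (hia.comp (hχ'.comp hib.inv))
    have : α = α' := by
      apply (h (𝒳.p.obj a)).2.map_injective
      apply natTrans_ext_idObj hY
      simp only [postF_map_app, hα, hα', Functor.map_comp, he]
    rw [this] at hα
    exact (cancel_mono ib.inv).1 ((cancel_epi ia.hom).1 (hα.symm.trans hα'))
  refine ⟨⟨fun {a b} ψ => ?_⟩, ⟨fun {a b} φ φ' e => ?_⟩⟩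
  · obtain ⟨b', l, hb', hl⟩ := exists_lift' hX (x := b)
      (eqToHom (F.w_obj a).symm ≫ 𝒴.p.map ψ ≫ eqToHom (F.w_obj b))
    have hg : eqToHom ((F.w_obj a).trans (hb'.symm.trans (F.w_obj b').symm)) ≫ 𝒴.p.map (F.map l)
        = 𝒴.p.map ψ := by simp [map_map, hl]
    obtain ⟨χ, -, hχ⟩ := hvf (factor hY (F.map l) ψ _ hg) ⟨_, factor_map hY _ _ _ hg⟩
    exact ⟨χ ≫ l, by rw [Functor.map_comp, hχ, factor_comp]⟩
  · have hp : 𝒳.p.map φ = 𝒳.p.map φ' := by
      have := congrArg 𝒴.p.map e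
      rw [map_map, map_map] at this
      exact (cancel_mono (eqToHom (F.w_obj b).symm)).1 ((cancel_epi (eqToHom (F.w_obj a))).1 this)
    obtain ⟨b', l, hb', hl⟩ := exists_lift' hX (x := b) (𝒳.p.map φ)
    have hg : eqToHom hb'.symm ≫ 𝒳.p.map l = 𝒳.p.map φ := by simp [hl]
    have hg' : eqToHom hb'.symm ≫ 𝒳.p.map l = 𝒳.p.map φ' := hg.trans hp
    rw [← factor_comp hX l φ _ hg, ← factor_comp hX l φ' _ hg']
    congr 1
    refine hvi _ _ ⟨_, factor_map hX _ _ _ hg⟩ ⟨_, factor_map hX _ _ _ hg'⟩ ?_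
    apply hom_eq_of_comp_eq hY (F.map l)
    · rw [map_map, map_map, factor_map, factor_map]
    · rw [← Functor.map_comp, ← Functor.map_comp, factor_comp, factor_comp, e]

end Groth.StkBase
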