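import Groth.Agent.StkBase.StackMk
import Groth.Agent.StkGerb.Relative
import Groth.Agent.CategoryFibred.Comp

/-!
# A stack over a stack is a stack over the base
-/

set_option autoImplicit false
set_option backward.isDefEq.respectTransparency false
set_option backward.isDefEq.respectTransparency.types false

universe v₃ u₃ v₂ u₂ v u

open CategoryTheory

namespace Groth.StkBase

variable {C : Type u} [Category.{v} C] {J : GrothendieckTopology C}
  {𝒳 : BasedCategory.{v₂, u₂} C} {𝒴 : BasedCategory.{v₃, u₃} 𝒳.obj}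

/-- A stack in groupoids over the total category of a stack in groupoids is one over the base. -/
theorem isStack_comp (hX : Stk.IsStack J 𝒳) (hY : Stk.IsStack (𝒳.p.restrictedTopology J) 𝒴) :
    Stk.IsStack J (BasedCategory.ofFunctor (𝒴.p ⋙ 𝒳.p)) := by
  have hZ : FibCat.IsFibGrpd (𝒴.p ⋙ 𝒳.p) := Groth.CatFib.isFibGrpd_comp hY.1 hX.1
  refine ⟨hZ, fun U R hR => ?_⟩
  let q : 𝒴.obj ⥤ 𝒳.obj := 𝒴.p
  have hXR := hX.2 R hR
  have eX : HomExt 𝒳 R :=
    homExt_of_faithful hX.1 (IsStackFor.isPrestackFor hXR).2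
  have gX : HomGlue 𝒳 R := homGlue_of_full hX.1 (IsStackFor.isPrestackFor hXR).1
  have oX : ObjGlue 𝒳 R := objGlue_of_essSurj (hXR : (Stk.resSieve R 𝒳).IsEquivalence).essSurj
  -- the induced sieve on an object over `U`
  let Rx : ∀ (x : 𝒳.obj) (_ : 𝒳.p.obj x = U), Sieve x :=
    fun x hx => (R.pullback (eqToHom hx)).functorPullback 𝒳.p
  have hRx : ∀ x hx, Stk.IsStackFor (Rx x hx) 𝒴 := fun x hx =>
    hY.2 _ (Groth.StkGerb.mem_restrictedTopology hX.1 (J.pullback_stable _ hR))
  refine isStackFor_mk (𝒳 := BasedCategory.ofFunctor (𝒴.p ⋙ 𝒳.p)) hZ ?_ ?_ ?_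
  · intro a b ha χ χ' hχ hχ' hl
    change 𝒴.obj at a b
    have hq : q.map χ = q.map χ' := by
      refine eX (a := q.obj a) ha ⟨hχ.obj_eq, hχ.map_eq⟩ ⟨hχ'.obj_eq, hχ'.map_eq⟩ fun x' l hR' => ?_
      obtain ⟨a', lh, ha', hlh⟩ := exists_lift' hY.1 (x := a) l
      have := congrArg q.map (hl lh (by
        show R (𝒳.p.map (q.map lh) ≫ eqToHom ha)
        rw [hlh, Functor.map_comp, eqToHom_map, Category.assoc]
        exact R.downward_closed hR' _))
      rw [Functor.map_comp, Functor.map_comp, hlh, Category.assoc, Category.assoc] at this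
      exact (cancel_epi _).1 this
    obtain ⟨b', n, hb', hn⟩ := exists_lift' hY.1 (x := b) (q.map χ)
    have e₁ : eqToHom hb'.symm ≫ q.map n = q.map χ := by simp [q, hn]
    have e₁' : eqToHom hb'.symm ≫ q.map n = q.map χ' := by rw [e₁, hq]
    let χ₁ := factor hY.1 n χ _ e₁
    let χ₁' := factor hY.1 n χ' _ e₁'
    have v₁ : IsVert 𝒴.p χ₁ := ⟨hb'.symm, factor_map hY.1 n χ _ e₁⟩
    have v₁' : IsVert 𝒴.p χ₁' := ⟨hb'.symm, factor_map hY.1 n χ' _ e₁'⟩
    suffices χ₁ = χ₁' by
      calc χ = χ₁ ≫ n := (factor_comp hY.1 n χ _ e₁).symm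
        _ = χ' := by rw [this]; exact factor_comp hY.1 n χ' _ e₁'
    refine homExt_of_faithful hY.1 (IsStackFor.isPrestackFor (hRx (q.obj a) ha)).2 rfl v₁ v₁'
      fun a' l hl' => ?_
    apply hom_eq_of_comp_eq hY.1 n
    · rw [Functor.map_comp, Functor.map_comp, v₁.map_eq, v₁'.map_eq]
    · rw [Category.assoc, Category.assoc, factor_comp, factor_comp]
      exact hl l (by
        rw [eqToHom_refl, Category.comp_id] at hl'
        exact hl')
  · intro a b ha hb m hm hc
    change 𝒴.obj at a b
    have hd : ∀ ⦃x' : 𝒳.obj⦄ (l : x' ⟶ q.obj a), R (𝒳.p.map l ≫ eqToHom ha) →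
        ∃ (a' : 𝒴.obj) (lh : a' ⟶ a) (h : q.obj a' = x'), q.map lh = eqToHom h ≫ l ∧
          R (𝒳.p.map (q.map lh) ≫ eqToHom ha) := fun x' l hl => by
      obtain ⟨a', lh, ha', hlh⟩ := exists_lift' hY.1 (x := a) l
      refine ⟨a', lh, ha', hlh, ?_⟩
      rw [show q.map lh = eqToHom ha' ≫ l from hlh, Functor.map_comp, eqToHom_map, Category.assoc]
      exact R.downward_closed hl _
    choose A lh hA hlh hRlh using hd
    have key : ∀ ⦃a' : 𝒴.obj⦄ (L : a' ⟶ a) (hL : R (𝒳.p.map (q.map L) ≫ eqToHom ha))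
        ⦃x' : 𝒳.obj⦄ (l : x' ⟶ q.obj a) (hl : R (𝒳.p.map l ≫ eqToHom ha)) (g : q.obj a' ⟶ x'),
        g ≫ l = q.map L → q.map (m L hL) = g ≫ eqToHom (hA l hl).symm ≫ q.map (m (lh l hl) (hRlh l hl)) := by
      intro a' L hL x' l hl g e
      have e' : (g ≫ eqToHom (hA l hl).symm) ≫ q.map (lh l hl) = q.map L := by
        simp [hlh, e]
      let k : a' ⟶ A l hl := factor hY.1 (lh l hl) L _ e'
      have hk : k ≫ lh l hl = L := factor_comp hY.1 _ _ _ e'
      have hR' : R (𝒳.p.map (q.map (k ≫ lh l hl)) ≫ eqToHom ha) := by rw [hk]; exact hL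
      have hm' : m (k ≫ lh l hl) hR' = m L hL := by congr 1
      rw [← hm', ← hc (lh l hl) (hRlh l hl) k hR', q.map_comp,
        show q.map k = _ from factor_map hY.1 _ _ _ e', Category.assoc]
    obtain ⟨χX, vX, hX'⟩ := gX (a := q.obj a) (b := q.obj b) ha hb
      (fun x' l hl => eqToHom (hA l hl).symm ≫ q.map (m (lh l hl) (hRlh l hl)))
      (fun x' l hl => by
        have h := hm (lh l hl) (hRlh l hl)
        change 𝒳.p.map (q.map (m (lh l hl) (hRlh l hl))) = 𝒳.p.map (q.map (lh l hl)) ≫ _ at h
        rw [hlh, Functor.map_comp, eqToHom_map] at h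
        rw [Functor.map_comp, eqToHom_map, h]
        simp)
      (fun x' x'' l hl k hkl => by
        have h := key (lh _ hkl) (hRlh _ hkl) l hl (eqToHom (hA _ hkl) ≫ k) (by
          rw [Category.assoc]; exact (hlh _ hkl).symm)
        simp [h])
    obtain ⟨b', n, hb', hn⟩ := exists_lift' hY.1 (x := b) χX
    have hn₁ : ∀ ⦃a' : 𝒴.obj⦄ (L : a' ⟶ a) (hL : R (𝒳.p.map (q.map L) ≫ eqToHom ha)),
        (q.map L ≫ eqToHom hb'.symm) ≫ q.map n = q.map (m L hL) := by
      intro a' L hL
      have e := hX' (q.map L) hL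
      have k := key L hL (q.map L) hL (𝟙 _) (Category.id_comp _)
      rw [Category.id_comp] at k
      simp only [q] at e k ⊢
      simp [hn, e, k]
    obtain ⟨χ₁, v₁, h₁⟩ := homGlue_of_full hY.1 (IsStackFor.isPrestackFor (hRx (q.obj a) ha)).1
      (a := a) (b := b') rfl hb'
      (fun a' L hL => factor hY.1 n (m L (by rw [eqToHom_refl, Category.comp_id] at hL; exact hL)) _
        (hn₁ L _))
      (fun a' L hL => factor_map hY.1 _ _ _ _)
      (fun a' a'' L hL k hkL => by
        apply hom_eq_of_comp_eq hY.1 n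
        · rw [Functor.map_comp, factor_map, factor_map]
          simp [q]
        · rw [Category.assoc, factor_comp, factor_comp]
          exact hc _ _ _ _)
    refine ⟨χ₁ ≫ n, ?_, fun a' L hL => ?_⟩
    · refine ⟨ha.trans hb.symm, ?_⟩
      change 𝒳.p.map (q.map (χ₁ ≫ n)) = _
      have h₂ : q.map χ₁ = eqToHom v₁.obj_eq := v₁.map_eq
      rw [q.map_comp, h₂, show q.map n = eqToHom hb' ≫ χX from hn]
      simp [eqToHom_map, vX.map_eq]
    · have hL' : (Rx (q.obj a) ha) (q.map L ≫ eqToHom rfl) := by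
        rw [eqToHom_refl, Category.comp_id]
        exact hL
      rw [← Category.assoc, h₁ L hL', factor_comp]
  · intro H
    let qB : BasedCategory.ofFunctor (𝒴.p ⋙ 𝒳.p) ⥤ᵇ 𝒳 := { toFunctor := q, w := rfl }
    obtain ⟨x, hx, cX, hcX, hcXn⟩ := oX (BasedFunctor.comp H qB)
    -- the members of the induced sieve
    let bar : (Stk.sieveCat (Rx x hx)).obj → (Stk.sieveCat R).obj := fun z =>
      ⟨Over.mk (𝒳.p.map z.obj.hom ≫ eqToHom hx), z.property⟩
    let barMap : ∀ {z z' : (Stk.sieveCat (Rx x hx)).obj} (_ : z ⟶ z'), bar z ⟶ bar z' := fun {z z'} f =>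
      ObjectProperty.homMk (Over.homMk (𝒳.p.map f.hom.left) (by
        have h : f.hom.left ≫ z'.obj.hom = z.obj.hom := Over.w f.hom
        show 𝒳.p.map f.hom.left ≫ 𝒳.p.map z'.obj.hom ≫ eqToHom hx = 𝒳.p.map z.obj.hom ≫ eqToHom hx
        rw [← Category.assoc, ← Functor.map_comp, h]))
    have hj : ∀ z : (Stk.sieveCat (Rx x hx)).obj, ∃ j : z.obj.left ≅ q.obj (H.obj (bar z)),
        IsVert 𝒳.p j.hom ∧ j.hom ≫ cX (bar z) = z.obj.hom := fun z =>
      exists_vert_iso_of_lifts hX.1 _ _ (H.w_obj (bar z)).symm (by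
        rw [hcX]
        simp [bar])
    choose j hjv hjc using hj
    have hj' : ∀ z, ∃ (y : 𝒴.obj) (n : y ⟶ H.obj (bar z)) (h : q.obj y = z.obj.left),
        q.map n = eqToHom h ≫ (j z).hom := fun z => exists_lift' hY.1 (x := H.obj (bar z)) (j z).hom
    choose y n hy hn using hj'
    have hf : ∀ {z z' : (Stk.sieveCat (Rx x hx)).obj} (f : z ⟶ z'),
        (eqToHom (hy z) ≫ f.hom.left ≫ eqToHom (hy z').symm) ≫ q.map (n z') =
          q.map (n z ≫ H.map (barMap f)) := by
      intro z z' f
      rw [q.map_comp, hn, hn]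
      simp only [Category.assoc, eqToHom_trans_assoc, eqToHom_refl, Category.id_comp]
      congr 1
      apply hom_eq_of_comp_eq hX.1 (cX (bar z'))
      · have e₂ : 𝒳.p.map (q.map (H.map (barMap f))) = _ := map_map H (barMap f)
        simp [e₂, (hjv z).map_eq, (hjv z').map_eq, barMap, sieveCat_map_left]
      · have e : q.map (H.map (barMap f)) ≫ cX (bar z') = cX (bar z) := hcXn (barMap f)
        rw [Category.assoc, Category.assoc, hjc, e, hjc]
        exact Over.w f.hom
    let H' : Stk.sieveCat (Rx x hx) ⥤ᵇ 𝒴 :=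
      { toFunctor :=
          { obj := y
            map := fun f => factor hY.1 _ _ _ (hf f)
            map_id := fun z => hom_eq_of_comp_eq hY.1 (n z)
              (by
                rw [factor_map]
                show eqToHom (hy z) ≫ 𝟙 z.obj.left ≫ eqToHom (hy z).symm = q.map (𝟙 (y z))
                rw [q.map_id]
                simp)
              (by
                rw [factor_comp]
                have : barMap (𝟙 z) = 𝟙 _ := ObjectProperty.hom_ext _ (Over.OverMorphism.ext (𝒳.p.map_id _))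
                rw [this, H.toFunctor.map_id]
                exact (Category.comp_id _).trans (Category.id_comp _).symm)
            map_comp := fun {z z' z''} f g => hom_eq_of_comp_eq hY.1 (n z'')
              (by
                rw [Functor.map_comp, factor_map, factor_map, factor_map]
                rw [show Over.Hom.left (f ≫ g).hom = f.hom.left ≫ g.hom.left from rfl]
                simp [q])
              (by
                rw [Category.assoc, factor_comp, factor_comp, ← Category.assoc, factor_comp,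
                  Category.assoc, ← Functor.map_comp]
                congr 2
                exact ObjectProperty.hom_ext _ (Over.OverMorphism.ext (𝒳.p.map_comp _ _))) }
        w := CategoryTheory.Functor.ext hy (fun z z' f => factor_map hY.1 _ _ _ (hf f)) }
    have hYx : (Stk.resSieve (Rx x hx) 𝒴).IsEquivalence := hRx x hx
    obtain ⟨a, ha, c, hc, hcn⟩ := objGlue_of_essSurj hYx.essSurj H'
    have hw : ∀ w : (Stk.sieveCat R).obj, (Rx x hx) (cX w) := fun w => by
      show R (𝒳.p.map (cX w) ≫ eqToHom hx)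
      rw [hcX]
      simp
      exact w.property
    let up : (Stk.sieveCat R).obj → (Stk.sieveCat (Rx x hx)).obj := fun w => ⟨Over.mk (cX w), hw w⟩
    let t : ∀ w, w ⟶ bar (up w) := fun w =>
      ObjectProperty.homMk (Over.homMk (eqToHom (H.w_obj w).symm) (by
        have := hcX w
        show eqToHom _ ≫ 𝒳.p.map (cX w) ≫ eqToHom hx = w.obj.hom
        rw [this]
        simp))
    have hk : ∀ w, eqToHom (hy (up w)).symm ≫ q.map (n (up w)) = q.map (H.map (t w)) := by
      intro w
      rw [hn]
      simp only [eqToHom_trans_assoc, eqToHom_refl, Category.id_comp]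
      apply hom_eq_of_comp_eq hX.1 (cX (bar (up w)))
      · have e : 𝒳.p.map (q.map (H.map (t w))) = _ := map_map H (t w)
        simp [e, (hjv (up w)).map_eq, t, sieveCat_map_left]
      · rw [hjc]
        exact (hcXn (t w)).symm
    refine ⟨a, (congrArg 𝒳.p.obj ha).trans hx, fun w => factor hY.1 _ _ _ (hk w) ≫ c (up w),
      fun w => ?_, fun w w' f => ?_⟩
    · show 𝒳.p.map (q.map (_ ≫ c (up w))) = _
      rw [q.map_comp, show q.map (factor hY.1 _ _ _ (hk w)) = _ from factor_map hY.1 _ _ _ (hk w),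
        show q.map (c (up w)) = _ from hc (up w)]
      simp [eqToHom_map, up, hcX]
    · let f' : up w ⟶ up w' := ObjectProperty.homMk (Over.homMk (q.map (H.map f)) (hcXn f))
      dsimp only
      rw [← hcn f', ← Category.assoc, ← Category.assoc]
      congr 1
      apply hom_eq_of_comp_eq hY.1 (n (up w'))
      · show q.map _ = q.map _
        rw [q.map_comp, q.map_comp, show q.map (factor hY.1 _ _ _ (hk w')) = _ from factor_map hY.1 _ _ _ (hk w'),
          show q.map (factor hY.1 _ _ _ (hk w)) = _ from factor_map hY.1 _ _ _ (hk w),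
          show q.map (H'.map f') = _ from factor_map hY.1 _ _ _ (hf f')]
        simp [f', up]
      · rw [Category.assoc, Category.assoc, factor_comp,
          show H'.map f' ≫ n (up w') = _ from factor_comp hY.1 _ _ _ (hf f'), ← Category.assoc,
          factor_comp, ← Functor.map_comp, ← Functor.map_comp]
        congr 1
        apply ObjectProperty.hom_ext
        apply Over.OverMorphism.ext
        have e : 𝒳.p.map (q.map (H.map f)) = _ := map_map H f
        simp [t, barMap, f', up, e, sieveCat_map_left]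
        refine (Over.comp_left _ _ _ _ _).trans (Eq.trans ?_ (Over.comp_left _ _ _ _ _).symm)
        simp [bar]

end Groth.StkBase
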