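import Groth.Agent.StkBase.StackMk
import Groth.Agent.StkBase.Stack
import Mathlib.CategoryTheory.Sites.CoverPreserving
import Mathlib.CategoryTheory.Limits.Preserves.Shapes.Pullbacks
import Mathlib.CategoryTheory.Limits.Shapes.Pullback.Categorical.Basic

/-!
# The inverse image of a stack along a morphism of sites given by pullback preserving functors
-/

set_option autoImplicit false
set_option backward.isDefEq.respectTransparency false
set_option backward.isDefEq.respectTransparency.types false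

universe v₃ u₃ v₂ u₂ v u

open CategoryTheory CategoryTheory.Limits

namespace Groth.StkBase

variable {C : Type u} [Category.{v} C] {D : Type u₂} [Category.{v₂} D] {u : C ⥤ D}
  {𝒮 : BasedCategory.{v₃, u₃} D}

theorem exists_lift_catPullback (hS : FibCat.IsFibGrpd 𝒮.p) (x : CategoricalPullback u 𝒮.p) {V : C}
    (f : V ⟶ x.fst) :
    ∃ (y : CategoricalPullback u 𝒮.p) (φ : y ⟶ x) (h : y.fst = V), φ.fst = eqToHom h ≫ f := by
  obtain ⟨s, l, hs, hl⟩ := exists_lift' hS (x := x.snd) (u.map f ≫ x.iso.hom)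
  exact ⟨⟨V, s, eqToIso hs.symm⟩, ⟨f, l, by simp [hl]⟩, rfl, by simp⟩

theorem isFibGrpd_catPullback (hS : FibCat.IsFibGrpd 𝒮.p) :
    FibCat.IsFibGrpd (CategoricalPullback.π₁ u 𝒮.p) := by
  refine isFibGrpd_mk (fun {x V} f => exists_lift_catPullback hS x f) fun {z y x} φ ψ g hg => ?_
  change z.fst ⟶ y.fst at g
  have hg' : g ≫ φ.fst = ψ.fst := hg
  have e : (z.iso.inv ≫ u.map g ≫ y.iso.hom) ≫ 𝒮.p.map φ.snd = 𝒮.p.map ψ.snd := by
    rw [Category.assoc, Category.assoc, ← φ.w, ← Functor.map_comp_assoc, hg', ψ.w,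
      Iso.inv_hom_id_assoc]
  refine ⟨⟨g, factor hS φ.snd ψ.snd _ e, by rw [factor_map]; simp⟩, ⟨rfl, CategoricalPullback.hom_ext hg' (factor_comp hS _ _ _ e)⟩, ?_⟩
  rintro χ ⟨h₁, h₂⟩
  change χ.fst = g at h₁
  refine CategoricalPullback.hom_ext h₁ ?_
  apply hom_eq_of_comp_eq hS φ.snd
  · show 𝒮.p.map χ.snd = 𝒮.p.map (factor hS φ.snd ψ.snd _ e)
    rw [factor_map, ← h₁, χ.w, Iso.inv_hom_id_assoc]
  · exact (congrArg (fun t => t.snd) h₂).trans (factor_comp hS _ _ _ e).symm

variable [HasPullbacks C] [PreservesLimitsOfShape WalkingCospan u]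

theorem isPullback_map {X Y Z : C} (f : X ⟶ Z) (g : Y ⟶ Z) :
    IsPullback (u.map (pullback.fst f g)) (u.map (pullback.snd f g)) (u.map f) (u.map g) :=
  (IsPullback.of_hasPullback f g).map u

theorem isStack_catPullback (J : GrothendieckTopology C) (K : GrothendieckTopology D)
    (hu : CoverPreserving J K u) (h𝒮 : Stk.IsStack K 𝒮) :
    Stk.IsStack J (BasedCategory.ofFunctor (CategoricalPullback.π₁ u 𝒮.p)) := by
  have hS := h𝒮.1
  have hP := isFibGrpd_catPullback (u := u) hS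
  refine ⟨hP, fun U R hR => ?_⟩
  let R' : Sieve (u.obj U) := R.functorPushforward u
  have hSR := h𝒮.2 R' (hu.cover_preserve hR)
  have eS : HomExt 𝒮 R' := homExt_of_faithful hS (IsStackFor.isPrestackFor hSR).2
  have gS : HomGlue 𝒮 R' := homGlue_of_full hS (IsStackFor.isPrestackFor hSR).1
  -- straightening of objects over `U`
  have hstd : ∀ (a : CategoricalPullback u 𝒮.p) (ha : a.fst = U),
      ∃ (s : 𝒮.obj) (n : s ⟶ a.snd) (hs : 𝒮.p.obj s = u.obj U), IsIso n ∧
        𝒮.p.map n = eqToHom (hs.trans (congrArg u.obj ha.symm)) ≫ a.iso.hom := by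
    intro a ha
    obtain ⟨s, n, hs, hn⟩ := exists_lift' hS (x := a.snd) (eqToHom (congrArg u.obj ha.symm) ≫ a.iso.hom)
    exact ⟨s, n, hs, isIso_of_isIso_map hS n (by rw [hn]; infer_instance), by rw [hn]; simp⟩
  -- arrows over a member come from the categorical pullback
  have hfac : ∀ (a : CategoricalPullback u 𝒮.p) (ha : a.fst = U) ⦃a' : 𝒮.obj⦄ (l : a' ⟶ a.snd),
      R' (𝒮.p.map l ≫ a.iso.inv ≫ eqToHom (congrArg u.obj ha)) →
      ∃ (b : CategoricalPullback u 𝒮.p) (L : b ⟶ a) (k : a' ⟶ b.snd),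
        R (L.fst ≫ eqToHom ha) ∧ k ≫ L.snd = l := by
    rintro a ha a' l ⟨V, f, g, hf, e⟩
    obtain ⟨b, L, hb, hL⟩ := exists_lift_catPullback hS a (f ≫ eqToHom ha.symm)
    have e₁ : (g ≫ eqToHom (congrArg u.obj hb.symm) ≫ b.iso.hom) ≫ 𝒮.p.map L.snd = 𝒮.p.map l := by
      rw [← cancel_mono a.iso.inv, ← cancel_mono (eqToHom (congrArg u.obj ha))]
      simp only [Category.assoc]
      rw [e, ← L.w_assoc, hL]
      simp [eqToHom_map]
    refine ⟨b, L, factor hS L.snd l _ e₁, ?_, factor_comp hS _ _ _ e₁⟩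
    rw [hL]
    simp only [Category.assoc, eqToHom_trans, eqToHom_refl, Category.comp_id]
    exact R.downward_closed hf _
  refine isStackFor_mk (𝒳 := BasedCategory.ofFunctor (CategoricalPullback.π₁ u 𝒮.p)) hP ?_ ?_ ?_
  · intro a b ha χ χ' hχ hχ' hl
    change CategoricalPullback u 𝒮.p at a b
    have hb : b.fst = U := hχ.obj_eq.symm.trans ha
    have hf : χ.fst = χ'.fst := hχ.map_eq.trans hχ'.map_eq.symm
    obtain ⟨s, n, hs, _, hn⟩ := hstd a ha
    obtain ⟨t, n', ht, _, hn'⟩ := hstd b hb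
    have hv : ∀ (ξ : a ⟶ b), ξ.fst = eqToHom (ha.trans hb.symm) →
        IsVert 𝒮.p (n ≫ ξ.snd ≫ inv n') := fun ξ hξ => ⟨hs.trans ht.symm, by
      have hw : 𝒮.p.map ξ.snd = a.iso.inv ≫ u.map ξ.fst ≫ b.iso.hom := by rw [ξ.w, Iso.inv_hom_id_assoc]
      simp [Functor.map_inv, hn, hn', hw, hξ, eqToHom_map]⟩
    refine CategoricalPullback.hom_ext hf ?_
    have := eS hs (hv χ hχ.map_eq) (hv χ' hχ'.map_eq) fun a' l hl' => ?_
    · exact (cancel_mono (inv n')).1 ((cancel_epi n).1 this)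
    · obtain ⟨c, L, k, hL, hk⟩ := hfac a ha (l ≫ n) (by
        rw [Functor.map_comp, hn]
        simp
        exact hl')
      have := congrArg (fun t => t.snd) (hl L hL)
      change L.snd ≫ χ.snd = L.snd ≫ χ'.snd at this
      rw [← reassoc_of% hk, ← reassoc_of% hk, reassoc_of% this]
  · intro a b ha hb m hm hc
    change CategoricalPullback u 𝒮.p at a b
    obtain ⟨s, n, hs, _, hn⟩ := hstd a ha
    obtain ⟨t, n', ht, _, hn'⟩ := hstd b hb
    have hind : ∀ ⦃a' : 𝒮.obj⦄ ⦃b₁ b₂ : CategoricalPullback u 𝒮.p⦄ (L₁ : b₁ ⟶ a) (L₂ : b₂ ⟶ a)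
        (h₁ : R (L₁.fst ≫ eqToHom ha)) (h₂ : R (L₂.fst ≫ eqToHom ha)) (k₁ : a' ⟶ b₁.snd)
        (k₂ : a' ⟶ b₂.snd), k₁ ≫ L₁.snd = k₂ ≫ L₂.snd →
          k₁ ≫ (m L₁ h₁).snd = k₂ ≫ (m L₂ h₂).snd := by
      intro a' b₁ b₂ L₁ L₂ h₁ h₂ k₁ k₂ e
      obtain ⟨c, Lc, hc', hLc⟩ := exists_lift_catPullback hS a (pullback.fst L₁.fst L₂.fst ≫ L₁.fst)
      obtain ⟨q₁, ⟨hq₁, hq₁'⟩, -⟩ := factor_unique hP L₁ Lc (eqToHom hc' ≫ pullback.fst _ _) (by
        show (eqToHom hc' ≫ pullback.fst _ _) ≫ L₁.fst = Lc.fst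
        rw [hLc]; simp)
      obtain ⟨q₂, ⟨hq₂, hq₂'⟩, -⟩ := factor_unique hP L₂ Lc (eqToHom hc' ≫ pullback.snd _ _) (by
        show (eqToHom hc' ≫ pullback.snd _ _) ≫ L₂.fst = Lc.fst
        rw [hLc]; simp [pullback.condition])
      change q₁.fst = _ at hq₁
      change q₂.fst = _ at hq₂
      have hk : ∀ ⦃b' : CategoricalPullback u 𝒮.p⦄ (L : b' ⟶ a) (k : a' ⟶ b'.snd),
          (𝒮.p.map k ≫ b'.iso.inv) ≫ u.map L.fst = 𝒮.p.map (k ≫ L.snd) ≫ a.iso.inv := fun b' L k => by
        simp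
      let g : 𝒮.p.obj a' ⟶ u.obj (pullback L₁.fst L₂.fst) :=
        (isPullback_map L₁.fst L₂.fst).lift (𝒮.p.map k₁ ≫ b₁.iso.inv) (𝒮.p.map k₂ ≫ b₂.iso.inv)
          (by rw [hk, hk, e])
      have hg₁ : (g ≫ u.map (eqToHom hc'.symm) ≫ c.iso.hom) ≫ 𝒮.p.map q₁.snd = 𝒮.p.map k₁ := by
        rw [Category.assoc, Category.assoc, ← q₁.w, hq₁, ← Functor.map_comp_assoc]
        simp [g]
      have hg₂ : (g ≫ u.map (eqToHom hc'.symm) ≫ c.iso.hom) ≫ 𝒮.p.map q₂.snd = 𝒮.p.map k₂ := by
        rw [Category.assoc, Category.assoc, ← q₂.w, hq₂, ← Functor.map_comp_assoc]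
        simp [g]
      let kc : a' ⟶ c.snd := factor hS q₁.snd k₁ _ hg₁
      have e₁ : kc ≫ q₁.snd = k₁ := factor_comp hS _ _ _ hg₁
      have e₂ : kc ≫ q₂.snd = k₂ := by
        apply hom_eq_of_comp_eq hS L₂.snd
        · rw [Functor.map_comp, factor_map, hg₂]
        · have r₁ := congrArg (fun t => t.snd) hq₁'
          have r₂ := congrArg (fun t => t.snd) hq₂'
          change q₁.snd ≫ L₁.snd = Lc.snd at r₁
          change q₂.snd ≫ L₂.snd = Lc.snd at r₂
          rw [← e, Category.assoc, r₂, ← r₁, reassoc_of% e₁]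
      have hR₁ : R ((q₁ ≫ L₁).fst ≫ eqToHom ha) := by
        rw [CategoricalPullback.comp_fst, Category.assoc]
        exact R.downward_closed h₁ _
      have hR₂ : R ((q₂ ≫ L₂).fst ≫ eqToHom ha) := by
        rw [CategoricalPullback.comp_fst, Category.assoc]
        exact R.downward_closed h₂ _
      have hm' : m (q₁ ≫ L₁) hR₁ = m (q₂ ≫ L₂) hR₂ := by congr 1; rw [hq₁', hq₂']
      have c₁ := congrArg (fun t => t.snd) (hc L₁ h₁ q₁ hR₁)
      have c₂ := congrArg (fun t => t.snd) (hc L₂ h₂ q₂ hR₂)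
      change q₁.snd ≫ (m L₁ h₁).snd = _ at c₁
      change q₂.snd ≫ (m L₂ h₂).snd = _ at c₂
      rw [← e₁, ← e₂, Category.assoc, Category.assoc, c₁, c₂, hm']
    have hcond : ∀ ⦃a' : 𝒮.obj⦄ (l : a' ⟶ s), R' (𝒮.p.map l ≫ eqToHom hs) →
        R' (𝒮.p.map (l ≫ n) ≫ a.iso.inv ≫ eqToHom (congrArg u.obj ha)) := fun a' l hl => by
      rw [Functor.map_comp, hn]
      simp
      exact hl
    choose B L k hL hk using fun (a' : 𝒮.obj) (l : a' ⟶ s) (hl : R' (𝒮.p.map l ≫ eqToHom hs)) =>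
      hfac a ha (l ≫ n) (hcond l hl)
    obtain ⟨χS, vS, hS'⟩ := gS hs ht
      (fun a' l hl => k a' l hl ≫ (m (L a' l hl) (hL a' l hl)).snd ≫ inv n')
      (fun a' l hl => by
        have h₁ : (m (L a' l hl) (hL a' l hl)).fst = (L a' l hl).fst ≫ eqToHom (ha.trans hb.symm) :=
          hm _ _
        have hw : 𝒮.p.map (m (L a' l hl) (hL a' l hl)).snd =
            (B a' l hl).iso.inv ≫ u.map (m (L a' l hl) (hL a' l hl)).fst ≫ b.iso.hom := by simp
        have e := congrArg 𝒮.p.map (hk a' l hl)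
        rw [Functor.map_comp, Functor.map_comp, hn] at e
        have hwL : 𝒮.p.map (L a' l hl).snd = (B a' l hl).iso.inv ≫ u.map (L a' l hl).fst ≫ a.iso.hom := by simp
        rw [hwL] at e
        rw [Functor.map_comp, Functor.map_comp, hw, h₁, Functor.map_inv]
        simp only [Functor.map_comp, eqToHom_map, Category.assoc]
        have e' := e =≫ (a.iso.inv ≫ eqToHom (congrArg u.obj (ha.trans hb.symm)) ≫ b.iso.hom ≫ inv (𝒮.p.map n'))
        simp only [Category.assoc, Iso.hom_inv_id_assoc] at e'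
        rw [e']
        simp [hn'])
      (fun a' a'' l hl k₀ hkl => by
        rw [← Category.assoc, ← Category.assoc, ← Category.assoc]
        congr 1
        refine hind _ _ (hL a' l hl) (hL a'' _ hkl) _ _ ?_
        rw [Category.assoc, hk, hk, Category.assoc])
    have hw : 𝒮.p.map (inv n ≫ χS ≫ n') = a.iso.inv ≫ eqToHom (congrArg u.obj (ha.trans hb.symm)) ≫ b.iso.hom := by
      simp [Functor.map_inv, hn, hn', vS.map_eq]
    refine ⟨⟨eqToHom (ha.trans hb.symm), inv n ≫ χS ≫ n', ?_⟩, ⟨ha.trans hb.symm, rfl⟩, fun a' l hl => ?_⟩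
    · rw [hw, eqToHom_map, Iso.hom_inv_id_assoc]
    · change CategoricalPullback u 𝒮.p at a'
      refine CategoricalPullback.hom_ext (hm l hl).symm ?_
      show l.snd ≫ inv n ≫ χS ≫ n' = (m l hl).snd
      have hl' : R' (𝒮.p.map (l.snd ≫ inv n) ≫ eqToHom hs) := by
        have hw' : 𝒮.p.map l.snd = a'.iso.inv ≫ u.map l.fst ≫ a.iso.hom := by simp
        refine ⟨_, l.fst ≫ eqToHom ha, a'.iso.inv, hl, ?_⟩
        rw [Functor.map_comp, Functor.map_inv, hw', Functor.map_comp, eqToHom_map]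
        simp [hn]
      rw [← Category.assoc, ← Category.assoc (l.snd ≫ inv n), hS' _ hl', Category.assoc, Category.assoc,
        IsIso.inv_hom_id, Category.comp_id]
      have := hind (L _ _ hl') l (hL _ _ hl') hl (k _ _ hl') (𝟙 a'.snd)
        (by rw [hk, Category.assoc, IsIso.inv_hom_id, Category.comp_id, Category.id_comp])
      rw [this, Category.id_comp]
  · intro H
    -- the objects to be glued, with their transition maps
    let s : (Stk.sieveCat R).obj → 𝒮.obj := fun z => (H.obj z).snd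
    let i : ∀ z, u.obj z.obj.left ≅ 𝒮.p.obj (s z) := fun z =>
      eqToIso (congrArg u.obj (H.w_obj z).symm) ≪≫ (H.obj z).iso
    have hmap : ∀ ⦃z z' : (Stk.sieveCat R).obj⦄ (f : z ⟶ z'),
        (i z).hom ≫ 𝒮.p.map (H.map f).snd = u.map f.hom.left ≫ (i z').hom := by
      intro z z' f
      have hf : (H.map f).fst = _ := map_map H f
      have := (H.map f).w
      simp only [i, Iso.trans_hom, eqToIso.hom, Category.assoc]
      rw [← this, hf]
      simp [eqToHom_map, sieveCat_map_left]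
    choose V f g hfR hfac' using fun w : (Stk.sieveCat R').obj => w.property
    let z₀ : (Stk.sieveCat R').obj → (Stk.sieveCat R).obj := fun w => ⟨Over.mk (f w), hfR w⟩
    have hy : ∀ w, ∃ (y : 𝒮.obj) (n : y ⟶ s (z₀ w)) (h : 𝒮.p.obj y = w.obj.left),
        𝒮.p.map n = eqToHom h ≫ g w ≫ (i (z₀ w)).hom := fun w =>
      exists_lift' hS (x := s (z₀ w)) (g w ≫ (i (z₀ w)).hom)
    choose y n hy hn using hy
    let P : (Stk.sieveCat R).obj → (Stk.sieveCat R).obj → (Stk.sieveCat R).obj := fun z z' =>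
      ⟨Over.mk (pullback.fst z.obj.hom z'.obj.hom ≫ z.obj.hom), R.downward_closed z.property _⟩
    let p₁ : ∀ z z', P z z' ⟶ z := fun z z' => ObjectProperty.homMk (Over.homMk (pullback.fst _ _) rfl)
    let p₂ : ∀ z z', P z z' ⟶ z' := fun z z' =>
      ObjectProperty.homMk (Over.homMk (pullback.snd _ _) pullback.condition.symm)
    have hφ : ∀ (w : (Stk.sieveCat R').obj) (z : (Stk.sieveCat R).obj) (γ : w.obj.left ⟶ u.obj z.obj.left),
        γ ≫ u.map z.obj.hom = w.obj.hom → ∃ χ : y w ⟶ s (P (z₀ w) z),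
          χ ≫ (H.map (p₁ (z₀ w) z)).snd = n w ∧
            𝒮.p.map (χ ≫ (H.map (p₂ (z₀ w) z)).snd) = eqToHom (hy w) ≫ γ ≫ (i z).hom := by
      intro w z γ hγ
      let G : w.obj.left ⟶ u.obj (P (z₀ w) z).obj.left :=
        (isPullback_map (f w) z.obj.hom).lift (g w) γ ((hfac' w).symm.trans hγ.symm)
      have e : (eqToHom (hy w) ≫ G ≫ (i (P (z₀ w) z)).hom) ≫ 𝒮.p.map (H.map (p₁ (z₀ w) z)).snd =
          𝒮.p.map (n w) := by
        rw [Category.assoc, Category.assoc, hmap, hn]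
        congr 1
        exact ((isPullback_map (f w) z.obj.hom).lift_fst_assoc _ _ _ _)
      refine ⟨factor hS _ _ _ e, factor_comp hS _ _ _ e, ?_⟩
      rw [Functor.map_comp, factor_map, Category.assoc, Category.assoc, hmap]
      congr 1
      exact ((isPullback_map (f w) z.obj.hom).lift_snd_assoc _ _ _ _)
    choose χ hχ₁ hχ₂ using hφ
    have hχeq : ∀ w z γ hγ (χ' : y w ⟶ s (P (z₀ w) z)),
        χ' ≫ (H.map (p₁ (z₀ w) z)).snd = n w →
          𝒮.p.map (χ' ≫ (H.map (p₂ (z₀ w) z)).snd) = eqToHom (hy w) ≫ γ ≫ (i z).hom →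
            χ' = χ w z γ hγ := by
      intro w z γ hγ χ' h₁ h₂
      apply hom_eq_of_comp_eq hS (H.map (p₁ (z₀ w) z)).snd
      · rw [← cancel_mono (i (P (z₀ w) z)).inv]
        apply (isPullback_map (u := u) (f w) z.obj.hom).hom_ext
        · have a₁ := congrArg 𝒮.p.map h₁
          have a₂ := congrArg 𝒮.p.map (hχ₁ w z γ hγ)
          rw [Functor.map_comp] at a₁ a₂
          have key : (i (P (z₀ w) z)).inv ≫ u.map (pullback.fst (f w) z.obj.hom) =
              𝒮.p.map (H.map (p₁ (z₀ w) z)).snd ≫ (i (z₀ w)).inv := by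
            rw [Iso.inv_comp_eq, ← Category.assoc, Iso.eq_comp_inv]
            exact (hmap (p₁ (z₀ w) z)).symm
          rw [Category.assoc, Category.assoc, key, reassoc_of% a₁, reassoc_of% a₂]
        · have a₁ := h₂
          have a₂ := hχ₂ w z γ hγ
          rw [Functor.map_comp] at a₁ a₂
          have key : (i (P (z₀ w) z)).inv ≫ u.map (pullback.snd (f w) z.obj.hom) =
              𝒮.p.map (H.map (p₂ (z₀ w) z)).snd ≫ (i z).inv := by
            rw [Iso.inv_comp_eq, ← Category.assoc, Iso.eq_comp_inv]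
            exact (hmap (p₂ (z₀ w) z)).symm
          rw [Category.assoc, Category.assoc, key, reassoc_of% a₁, reassoc_of% a₂]
      · rw [h₁, hχ₁]
    let φ : ∀ w z γ, γ ≫ u.map z.obj.hom = w.obj.hom → (y w ⟶ s z) := fun w z γ hγ =>
      χ w z γ hγ ≫ (H.map (p₂ (z₀ w) z)).snd
    have hcompH : ∀ ⦃z z' z'' : (Stk.sieveCat R).obj⦄ (t : z ⟶ z') (t' : z' ⟶ z''),
        (H.map t).snd ≫ (H.map t').snd = (H.map (t ≫ t')).snd := fun z z' z'' t t' => by
      rw [H.toFunctor.map_comp]; rfl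
    have hγt : ∀ (w : (Stk.sieveCat R').obj) ⦃z z' : (Stk.sieveCat R).obj⦄ (t : z ⟶ z')
        (γ : w.obj.left ⟶ u.obj z.obj.left) (_ : γ ≫ u.map z.obj.hom = w.obj.hom),
        (γ ≫ u.map t.hom.left) ≫ u.map z'.obj.hom = w.obj.hom := by
      intro w z z' t γ hγ
      have ht : t.hom.left ≫ z'.obj.hom = z.obj.hom := Over.w t.hom
      rw [Category.assoc, ← Functor.map_comp, ht, hγ]
    have hφt : ∀ (w : (Stk.sieveCat R').obj) ⦃z z' : (Stk.sieveCat R).obj⦄ (t : z ⟶ z')
        (γ : w.obj.left ⟶ u.obj z.obj.left) (hγ : γ ≫ u.map z.obj.hom = w.obj.hom),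
        φ w z γ hγ ≫ (H.map t).snd = φ w z' (γ ≫ u.map t.hom.left) (hγt w t γ hγ) := by
      intro w z z' t γ hγ
      let T : P (z₀ w) z ⟶ P (z₀ w) z' := ObjectProperty.homMk (Over.homMk
        (pullback.lift (pullback.fst _ _) (pullback.snd _ _ ≫ t.hom.left) (by
          have ht : t.hom.left ≫ z'.obj.hom = z.obj.hom := Over.w t.hom
          rw [Category.assoc, ht, pullback.condition]))
        (by
          show pullback.lift _ _ _ ≫ pullback.fst _ _ ≫ _ = pullback.fst _ _ ≫ _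
          rw [pullback.lift_fst_assoc]))
      have hT₁ : T ≫ p₁ (z₀ w) z' = p₁ (z₀ w) z :=
        ObjectProperty.hom_ext _ (Over.OverMorphism.ext (pullback.lift_fst _ _ _))
      have hT₂ : T ≫ p₂ (z₀ w) z' = p₂ (z₀ w) z ≫ t :=
        ObjectProperty.hom_ext _ (Over.OverMorphism.ext (pullback.lift_snd _ _ _))
      have : χ w z γ hγ ≫ (H.map T).snd = χ w z' _ (hγt w t γ hγ) := by
        refine hχeq _ _ _ _ _ ?_ ?_
        · rw [Category.assoc, hcompH, hT₁, hχ₁]
        · rw [Category.assoc, hcompH, hT₂, ← hcompH, ← Category.assoc, Functor.map_comp, hχ₂]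
          simp [hmap]
      simp only [φ, ← this, Category.assoc, hcompH, hT₂]
    have hφn : ∀ w, φ w (z₀ w) (g w) (hfac' w).symm = n w := by
      intro w
      let Δ : z₀ w ⟶ P (z₀ w) (z₀ w) := ObjectProperty.homMk (Over.homMk
        (pullback.lift (𝟙 _) (𝟙 _) rfl) (by
          show pullback.lift _ _ _ ≫ pullback.fst _ _ ≫ _ = _
          rw [pullback.lift_fst_assoc, Category.id_comp]))
      have hΔ₁ : Δ ≫ p₁ _ _ = 𝟙 _ := ObjectProperty.hom_ext _ (Over.OverMorphism.ext (pullback.lift_fst _ _ _))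
      have hΔ₂ : Δ ≫ p₂ _ _ = 𝟙 _ := ObjectProperty.hom_ext _ (Over.OverMorphism.ext (pullback.lift_snd _ _ _))
      have hid : ∀ z, (H.map (𝟙 z)).snd = 𝟙 (s z) := fun z => by rw [H.toFunctor.map_id]; rfl
      have : n w ≫ (H.map Δ).snd = χ w (z₀ w) (g w) (hfac' w).symm := by
        refine hχeq _ _ _ _ _ ?_ ?_
        · rw [Category.assoc, hcompH, hΔ₁, hid, Category.comp_id]
        · rw [Category.assoc, hcompH, hΔ₂, hid, Category.comp_id, hn]
      simp only [φ, ← this, Category.assoc, hcompH, hΔ₂, hid, Category.comp_id]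
    have hpm : ∀ ⦃w' w : (Stk.sieveCat R').obj⦄ (k : w' ⟶ w) {z : (Stk.sieveCat R).obj}
        (γ : w.obj.left ⟶ u.obj z.obj.left) (_ : γ ≫ u.map z.obj.hom = w.obj.hom), (k.hom.left ≫ γ) ≫ u.map z.obj.hom = w'.obj.hom := by
      intro w' w k γ z hγ
      rw [Category.assoc, hγ]
      exact Over.w k.hom
    have hM : ∀ ⦃w' w : (Stk.sieveCat R').obj⦄ (k : w' ⟶ w), ∃ M : y w' ⟶ y w,
        𝒮.p.map M = eqToHom (hy w') ≫ k.hom.left ≫ eqToHom (hy w).symm ∧
          ∀ (z : (Stk.sieveCat R).obj) (γ : w.obj.left ⟶ u.obj z.obj.left) (hγ : γ ≫ u.map z.obj.hom = w.obj.hom),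
            M ≫ φ w z γ hγ = φ w' z (k.hom.left ≫ γ) (hpm k γ hγ) := by
      intro w' w k
      have e : (eqToHom (hy w') ≫ k.hom.left ≫ eqToHom (hy w).symm) ≫ 𝒮.p.map (n w) =
          𝒮.p.map (φ w' (z₀ w) (k.hom.left ≫ g w) (hpm k (z := z₀ w) (g w) (hfac' w).symm)) := by
        rw [hχ₂, hn]
        simp
      let M := factor hS (n w) (φ w' (z₀ w) (k.hom.left ≫ g w) (hpm k (z := z₀ w) (g w) (hfac' w).symm)) _ e
      have hM₁ : 𝒮.p.map M = eqToHom (hy w') ≫ k.hom.left ≫ eqToHom (hy w).symm := factor_map hS _ _ _ e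
      refine ⟨M, hM₁, fun z γ hγ => ?_⟩
      let G : w.obj.left ⟶ u.obj (P (z₀ w) z).obj.left :=
        (isPullback_map (f w) z.obj.hom).lift (g w) γ ((hfac' w).symm.trans hγ.symm)
      have hG₁ : G ≫ u.map (pullback.fst (f w) z.obj.hom) = g w := IsPullback.lift_fst _ _ _ _
      have hG₂ : G ≫ u.map (pullback.snd (f w) z.obj.hom) = γ := IsPullback.lift_snd _ _ _ _
      have hG : G ≫ u.map (P (z₀ w) z).obj.hom = w.obj.hom := by
        show G ≫ u.map (pullback.fst (f w) z.obj.hom ≫ f w) = _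
        rw [Functor.map_comp, reassoc_of% hG₁]
        exact (hfac' w).symm
      let ψ := φ w' (P (z₀ w) z) (k.hom.left ≫ G) (hpm k (z := P (z₀ w) z) G hG)
      have h₁ : ψ ≫ (H.map (p₁ (z₀ w) z)).snd = M ≫ n w := by
        rw [hφt, factor_comp]
        congr 1
        show (k.hom.left ≫ G) ≫ u.map (pullback.fst (f w) z.obj.hom) = k.hom.left ≫ g w
        rw [Category.assoc, hG₁]
      have h₂ : ψ ≫ (H.map (p₂ (z₀ w) z)).snd = φ w' z (k.hom.left ≫ γ) (hpm k γ hγ) := by
        rw [hφt]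
        congr 1
        show (k.hom.left ≫ G) ≫ u.map (pullback.snd (f w) z.obj.hom) = k.hom.left ≫ γ
        rw [Category.assoc, hG₂]
      have : M ≫ χ w z γ hγ = ψ := by
        apply hom_eq_of_comp_eq hS (H.map (p₁ (z₀ w) z)).snd
        · rw [← cancel_mono (i (P (z₀ w) z)).inv, Functor.map_comp, hM₁, hχ₂]
          apply (isPullback_map (u := u) (f w) z.obj.hom).hom_ext
          · have key : (i (P (z₀ w) z)).inv ≫ u.map (pullback.fst (f w) z.obj.hom) =
                𝒮.p.map (H.map (p₁ (z₀ w) z)).snd ≫ (i (z₀ w)).inv := by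
              rw [Iso.inv_comp_eq, ← Category.assoc, Iso.eq_comp_inv]
              exact (hmap (p₁ (z₀ w) z)).symm
            have a₂ := congrArg 𝒮.p.map (hχ₁ w z γ hγ)
            rw [Functor.map_comp, hn] at a₂
            simp only [Category.assoc, key, reassoc_of% a₂]
            rw [← key, Iso.hom_inv_id_assoc]
            simp [hG₁, hG₂]
          · have key : (i (P (z₀ w) z)).inv ≫ u.map (pullback.snd (f w) z.obj.hom) =
                𝒮.p.map (H.map (p₂ (z₀ w) z)).snd ≫ (i z).inv := by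
              rw [Iso.inv_comp_eq, ← Category.assoc, Iso.eq_comp_inv]
              exact (hmap (p₂ (z₀ w) z)).symm
            have a₂ := hχ₂ w z γ hγ
            rw [Functor.map_comp] at a₂
            simp only [Category.assoc, key, reassoc_of% a₂]
            rw [← key, Iso.hom_inv_id_assoc]
            simp [hG₁, hG₂]
        · rw [Category.assoc, hχ₁, h₁]
      simp only [φ] at h₂ ⊢
      rw [← Category.assoc, this, h₂]
    choose M hM₁ hM₂ using hM
    let H' : Stk.sieveCat R' ⥤ᵇ 𝒮 :=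
      { toFunctor :=
          { obj := y
            map := fun k => M k
            map_id := fun w => by
              apply hom_eq_of_comp_eq hS (n w)
              · rw [hM₁]
                show eqToHom (hy w) ≫ 𝟙 w.obj.left ≫ eqToHom (hy w).symm = 𝒮.p.map (𝟙 (y w))
                rw [𝒮.p.map_id]
                simp
              · rw [Category.id_comp]
                conv_lhs => rw [← hφn w]
                rw [hM₂]
                refine Eq.trans ?_ (hφn w)
                congr 1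
                exact Category.id_comp _
            map_comp := fun {w w' w''} k k' => by
              apply hom_eq_of_comp_eq hS (n w'')
              · rw [hM₁, Functor.map_comp, hM₁, hM₁,
                  show Over.Hom.left (k ≫ k').hom = k.hom.left ≫ k'.hom.left from rfl]
                simp
              · rw [← hφn w'', hM₂, Category.assoc, hM₂, hM₂]
                congr 1
                exact Category.assoc _ _ _ }
        w := CategoryTheory.Functor.ext hy (fun w w' k => hM₁ k) }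
    obtain ⟨a, ha, c, hc, hcn⟩ := objGlue_of_essSurj hSR.essSurj H'
    let up : (Stk.sieveCat R).obj → (Stk.sieveCat R').obj := fun z =>
      ⟨Over.mk (u.map z.obj.hom), ⟨_, z.obj.hom, 𝟙 _, z.property, (Category.id_comp _).symm⟩⟩
    let F : ∀ z, y (up z) ⟶ s z := fun z => φ (up z) z (𝟙 _) (Category.id_comp _)
    have hF : ∀ z, 𝒮.p.map (F z) = eqToHom (hy (up z)) ≫ (i z).hom := fun z => by
      show 𝒮.p.map (φ (up z) z (𝟙 _) _) = _
      rw [hχ₂]
      simp [up]
    have hiso : ∀ z, IsIso (F z) := fun z =>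
      isIso_of_isIso_map hS _ (by rw [hF]; infer_instance)
    refine ⟨⟨U, a, eqToIso ha.symm⟩, rfl, fun z =>
      ⟨eqToHom (H.w_obj z) ≫ z.obj.hom, inv (F z) ≫ c (up z), ?_⟩, fun z => ?_, fun z z' t => ?_⟩
    · have h₁ : 𝒮.p.map (c (up z)) = _ := hc (up z)
      have h₂ : 𝒮.p.map (inv (F z) ≫ c (up z)) = inv (𝒮.p.map (F z)) ≫ 𝒮.p.map (c (up z)) := by
        rw [Functor.map_comp, Functor.map_inv]
      show u.map _ ≫ (eqToIso ha.symm).hom = (H.obj z).iso.hom ≫ 𝒮.p.map (inv (F z) ≫ c (up z))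
      erw [h₂, h₁]
      simp only [hF]
      simp [i, up, H', eqToHom_map]
    · show eqToHom (H.w_obj z) ≫ z.obj.hom = _
      simp
    · have hfst : (H.map t).fst = _ := map_map H t
      apply CategoricalPullback.hom_ext
      · show (H.map t).fst ≫ eqToHom (H.w_obj z') ≫ z'.obj.hom = eqToHom (H.w_obj z) ≫ z.obj.hom
        rw [hfst]
        have ht : t.hom.left ≫ z'.obj.hom = z.obj.hom := Over.w t.hom
        simp [sieveCat_map_left, ht]
      · show (H.map t).snd ≫ inv (F z') ≫ c (up z') = inv (F z) ≫ c (up z)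
        let t' : up z ⟶ up z' := ObjectProperty.homMk (Over.homMk (u.map t.hom.left) (by
          have ht : t.hom.left ≫ z'.obj.hom = z.obj.hom := Over.w t.hom
          show u.map t.hom.left ≫ u.map z'.obj.hom = u.map z.obj.hom
          rw [← Functor.map_comp, ht]))
        have e : M t' ≫ F z' = F z ≫ (H.map t).snd := by
          simp only [F, hM₂, hφt]
          congr 1
          simp [t']
        rw [← hcn t', IsIso.eq_inv_comp, ← reassoc_of% e, IsIso.hom_inv_id_assoc]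

end Groth.StkBase
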