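import Groth.Agent.StkBase.StackMk
import Groth.Agent.StkBase.Stack
import Mathlib.CategoryTheory.Sites.Over

/-!
# A faithful functor to a stack whose fibre products over representables are stacks
-/

set_option autoImplicit false
set_option backward.isDefEq.respectTransparency false
set_option backward.isDefEq.respectTransparency.types false

universe v₃ u₃ v₂ u₂ v u

open CategoryTheory

namespace Groth.StkBase

variable {C : Type u} [Category.{v} C] {J : GrothendieckTopology C}
  {𝒮 : BasedCategory.{v₂, u₂} C} {𝒯 : BasedCategory.{v₃, u₃} C}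

/-- The 2-fibre product over a slice, as a category over the slice. -/
abbrev overFp {U : C} (y : FibCat.overCat U ⥤ᵇ 𝒯) (F : 𝒮 ⥤ᵇ 𝒯) :=
  BasedCategory.ofFunctor ((FibCat.fpFst y F).toFunctor : (FibCat.fp y F).obj ⥤ Over U)

theorem isStack_of_fp_stack (hS : FibCat.IsFibGrpd 𝒮.p) (hT : Stk.IsStack J 𝒯) (F : 𝒮 ⥤ᵇ 𝒯)
    [F.toFunctor.Faithful]
    (h3 : ∀ (U : C) (y : FibCat.overCat U ⥤ᵇ 𝒯), Stk.IsStack (J.over U) (overFp y F)) :
    Stk.IsStack J 𝒮 := by
  refine ⟨hS, fun U R hR => ?_⟩
  have hTR := hT.2 R hR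
  have eT : HomExt 𝒯 R := homExt_of_faithful hT.1 (IsStackFor.isPrestackFor hTR).2
  have gT : HomGlue 𝒯 R := homGlue_of_full hT.1 (IsStackFor.isPrestackFor hTR).1
  have oT : ObjGlue 𝒯 R := objGlue_of_essSurj (hTR : (Stk.resSieve R 𝒯).IsEquivalence).essSurj
  let R₀ : Sieve (idObj U) := (Sieve.overEquiv (idObj U)).symm R
  have hR₀ : R₀ ∈ J.over U (idObj U) := GrothendieckTopology.overEquiv_symm_mem_over J (idObj U) R hR
  -- lifts in `𝒮` of arrows into an image
  have hlift : ∀ ⦃a : 𝒮.obj⦄ (_ : 𝒮.p.obj a = U) ⦃x' : 𝒯.obj⦄ (l : x' ⟶ F.obj a),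
      ∃ (a' : 𝒮.obj) (lh : a' ⟶ a) (i : x' ≅ F.obj a'), IsVert 𝒯.p i.hom ∧ i.hom ≫ F.map lh = l ∧
        ∃ h : 𝒮.p.obj a' = 𝒯.p.obj x', 𝒮.p.map lh = eqToHom h ≫ 𝒯.p.map l ≫ eqToHom (F.w_obj a) := by
    intro a _ x' l
    obtain ⟨a', lh, ha', hlh⟩ := exists_lift' hS (x := a) (𝒯.p.map l ≫ eqToHom (F.w_obj a))
    obtain ⟨i, hi, hi'⟩ := exists_vert_iso_of_lifts hT.1 l (F.map lh) (ha'.symm.trans (F.w_obj a').symm)
      (by rw [map_map, hlh]; simp)
    exact ⟨a', lh, i, hi, hi', ha', hlh⟩
  refine isStackFor_mk hS ?_ ?_ ?_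
  · intro a b ha χ χ' hχ hχ' hl
    refine F.toFunctor.map_injective (eT ((F.w_obj a).trans ha) (isVert_map hχ) (isVert_map hχ')
      fun x' l hl' => ?_)
    obtain ⟨a', lh, i, -, hi', h, hlh⟩ := hlift ha l
    have hR' : R (𝒮.p.map lh ≫ eqToHom ha) := by
      rw [hlh]
      simp only [Category.assoc, eqToHom_trans]
      exact R.downward_closed hl' _
    rw [← hi', Category.assoc, Category.assoc, ← F.toFunctor.map_comp, ← F.toFunctor.map_comp, hl lh hR']
  · intro a b ha hb m hm hc
    -- glue the images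
    choose A lh i hi hi' hA hlh using hlift ha
    have hRl : ∀ ⦃x' : 𝒯.obj⦄ (l : x' ⟶ F.obj a),
        R (𝒯.p.map l ≫ eqToHom ((F.w_obj a).trans ha)) → R (𝒮.p.map (lh l) ≫ eqToHom ha) :=
      fun x' l hl => by
        rw [hlh]
        simp only [Category.assoc, eqToHom_trans]
        exact R.downward_closed hl _
    have hind : ∀ ⦃a' : 𝒮.obj⦄ (L : a' ⟶ a) (hL : R (𝒮.p.map L ≫ eqToHom ha)) ⦃x' : 𝒯.obj⦄
        (l : x' ⟶ F.obj a) (hl : R (𝒯.p.map l ≫ eqToHom ((F.w_obj a).trans ha))) (g : F.obj a' ⟶ x'),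
        g ≫ l = F.map L → F.map (m L hL) = g ≫ (i l).hom ≫ F.map (m (lh l) (hRl l hl)) := by
      intro a' L hL x' l hl g e
      have e' : (eqToHom (F.w_obj a').symm ≫ 𝒯.p.map g ≫ eqToHom (hA l).symm) ≫ 𝒮.p.map (lh l) =
          𝒮.p.map L := by
        have := congrArg 𝒯.p.map e
        rw [Functor.map_comp, map_map] at this
        simp [hlh, reassoc_of% this]
      let k : a' ⟶ A l := factor hS (lh l) L _ e'
      have hk : k ≫ lh l = L := factor_comp hS _ _ _ e'
      have hg : g ≫ (i l).hom = F.map k := by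
        apply hom_eq_of_comp_eq hT.1 (F.map (lh l))
        · rw [Functor.map_comp, (hi l).map_eq, map_map, factor_map]
          simp
        · rw [Category.assoc, hi', e, ← F.toFunctor.map_comp, hk]
      have hR' : R (𝒮.p.map (k ≫ lh l) ≫ eqToHom ha) := by rw [hk]; exact hL
      have hm' : m (k ≫ lh l) hR' = m L hL := by congr 1
      rw [← Category.assoc, hg, ← F.toFunctor.map_comp, hc (lh l) (hRl l hl) k hR', hm']
    obtain ⟨χT, vT, hT'⟩ := gT (a := F.obj a) (b := F.obj b) ((F.w_obj a).trans ha) ((F.w_obj b).trans hb)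
      (fun x' l hl => (i l).hom ≫ F.map (m (lh l) (hRl l hl)))
      (fun x' l hl => by
        rw [Functor.map_comp, (hi l).map_eq, map_map, hm, hlh]
        simp)
      (fun x' x'' l hl k hkl => by
        have h := hind (lh (k ≫ l)) (hRl _ hkl) l hl ((i (k ≫ l)).inv ≫ k)
          (by rw [Category.assoc, Iso.inv_comp_eq, hi'])
        rw [h, Category.assoc, Iso.hom_inv_id_assoc])
    have hFm : ∀ ⦃a' : 𝒮.obj⦄ (L : a' ⟶ a) (hL : R (𝒮.p.map L ≫ eqToHom ha)),
        F.map L ≫ χT = F.map (m L hL) := by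
      intro a' L hL
      have hl : R (𝒯.p.map (F.map L) ≫ eqToHom ((F.w_obj a).trans ha)) := by
        rw [map_map]
        simp only [Category.assoc, eqToHom_trans]
        exact R.downward_closed hL _
      rw [hT' _ hl, hind L hL (F.map L) hl (𝟙 _) (Category.id_comp _), Category.id_comp]
    have := vT.isIso hT.1
    let y := overFunctor hT.1 (F.obj b) ((F.w_obj b).trans hb)
    obtain ⟨j, hj⟩ := overFunctor_eval hT.1 (F.obj b) ((F.w_obj b).trans hb)
    have hZ := (h3 U y).1
    have gZ : HomGlue (overFp y F) R₀ :=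
      homGlue_of_full hZ (IsStackFor.isPrestackFor ((h3 U y).2 R₀ hR₀)).1
    let A₀ : (FibCat.fp y F).obj := fpMk (F := y) (G := F) (idObj U) a (j ≪≫ (asIso χT).symm) (hj.comp (IsVert.inv (φ := asIso χT) vT))
    let B₀ : (FibCat.fp y F).obj := fpMk (F := y) (G := F) (idObj U) b j hj
    have hRL : ∀ ⦃a' : (FibCat.fp y F).obj⦄ (l : a' ⟶ A₀),
        R₀ ((FibCat.fpFst y F).toFunctor.map l ≫ eqToHom rfl) →
          R (𝒮.p.map l.hom.snd ≫ eqToHom ha) := by
      intro a' l hl
      have e := congrArg 𝒯.p.map l.hom.w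
      simp only [Functor.map_comp, map_map, (fp_isVert a').map_eq, (fp_isVert A₀).map_eq] at e
      have e' : 𝒮.p.map l.hom.snd ≫ eqToHom ha = eqToHom ((F.w_obj _).symm.trans
          ((fp_isVert a').obj_eq.symm.trans (y.w_obj _))) ≫ l.hom.fst.left := by
        rw [← cancel_epi (eqToHom ((fp_isVert a').obj_eq.trans (F.w_obj _))),
          ← cancel_mono (eqToHom (((F.w_obj a).trans ha).symm))]
        simp [overCat_map] at e ⊢
        exact e.symm
      rw [e']
      refine R.downward_closed ?_ _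
      rw [eqToHom_refl, Category.comp_id] at hl
      exact hl
    obtain ⟨δ, hδ, hδ'⟩ := gZ (a := A₀) (b := B₀) rfl rfl
      (fun a' l hl => fpHom l.hom.fst (m l.hom.snd (hRL l hl)) (by
        have w : y.map l.hom.fst ≫ j.hom ≫ inv χT = a'.obj.iso.hom ≫ F.map l.hom.snd := l.hom.w
        show y.map l.hom.fst ≫ j.hom = _
        have w' := w =≫ χT
        simp only [Category.assoc, IsIso.inv_hom_id, Category.comp_id] at w'
        rw [w', hFm]))
      (fun a' l hl => by
        show (FibCat.fpFst y F).toFunctor.map _ = _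
        simp [fpHom, FibCat.fpFst]
        rfl)
      (fun a' a'' l hl k hkl => fp_hom_ext rfl (by
        show k.hom.snd ≫ m l.hom.snd _ = m (k.hom.snd ≫ l.hom.snd) _
        exact hc _ _ _ _))
    have hfst : δ.hom.fst = 𝟙 (idObj U) := hδ.map_eq.trans (eqToHom_refl _ _)
    refine ⟨δ.hom.snd, ?_, fun a' l hl => ?_⟩
    · refine ⟨ha.trans hb.symm, ?_⟩
      have e : y.map δ.hom.fst ≫ j.hom = (j.hom ≫ inv χT) ≫ F.map δ.hom.snd := δ.hom.w
      rw [hfst] at e
      erw [y.toFunctor.map_id, Category.id_comp, Category.assoc] at e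
      have e₁ : 𝟙 _ = inv χT ≫ F.map δ.hom.snd := (cancel_epi j.hom).1 ((Category.comp_id _).trans e)
      have e₂ : F.map δ.hom.snd = χT := by
        rw [← cancel_epi (inv χT), ← e₁, IsIso.inv_hom_id]
      have e₃ := congrArg 𝒯.p.map e₂
      rw [map_map, vT.map_eq] at e₃
      rw [← cancel_epi (eqToHom (F.w_obj a)), ← cancel_mono (eqToHom (F.w_obj b).symm)]
      simpa using e₃
    · let o : (FibCat.overCat U).obj := Over.mk (𝒮.p.map l ≫ eqToHom ha)
      obtain ⟨k, hk, hk'⟩ := exists_vert_iso_of_lifts hT.1 (y.map (toId o) ≫ j.hom ≫ inv χT) (F.map l)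
        ((y.w_obj o).trans (F.w_obj a').symm)
        (by
          simp only [Functor.map_comp, map_map, hj.map_eq, Functor.map_inv, vT.map_eq]
          simp [o, overCat_map, toId])
      let A' : (FibCat.fp y F).obj := fpMk (F := y) (G := F) o a' k hk
      let L : A' ⟶ A₀ := fpHom (toId o) l hk'.symm
      have hL : R₀ ((FibCat.fpFst y F).toFunctor.map L ≫ eqToHom rfl) := by
        rw [eqToHom_refl, Category.comp_id]
        exact hl
      exact congrArg (fun t => t.hom.snd) (hδ' L hL)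
  · intro H
    obtain ⟨x, hx, cX, hcX, hcXn⟩ := oT (BasedFunctor.comp H F)
    let y := overFunctor hT.1 x hx
    obtain ⟨j, hj⟩ := overFunctor_eval hT.1 x hx
    let bar : (Stk.sieveCat R₀).obj → (Stk.sieveCat R).obj := fun z => ⟨Over.mk z.obj.hom.left, z.property⟩
    let barMap : ∀ {z z' : (Stk.sieveCat R₀).obj} (_ : z ⟶ z'), bar z ⟶ bar z' := fun {z z'} f =>
      ObjectProperty.homMk (Over.homMk f.hom.left.left (by
        have h : f.hom.left ≫ z'.obj.hom = z.obj.hom := Over.w f.hom
        exact congrArg (fun t => t.left) h))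
    have hbar : ∀ z : (Stk.sieveCat R₀).obj, z.obj.hom.left = z.obj.left.hom := fun z =>
      ((Category.comp_id _).symm.trans (Over.w z.obj.hom))
    have hd : ∀ z : (Stk.sieveCat R₀).obj, ∃ d : y.obj z.obj.left ≅ F.obj (H.obj (bar z)),
        IsVert 𝒯.p d.hom ∧ d.hom ≫ cX (bar z) = y.map (toId z.obj.left) ≫ j.hom := fun z =>
      exists_vert_iso_of_lifts hT.1 _ _
        ((y.w_obj _).trans ((F.w_obj _).trans (H.w_obj (bar z))).symm) (by
          rw [Functor.map_comp, map_map, hj.map_eq, hcX]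
          simp [bar, overCat_map, toId, hbar])
    choose d hdv hdc using hd
    have hw : ∀ {z z' : (Stk.sieveCat R₀).obj} (f : z ⟶ z'),
        y.map f.hom.left ≫ (d z').hom = (d z).hom ≫ F.map (H.map (barMap f)) := by
      intro z z' f
      apply hom_eq_of_comp_eq hT.1 (cX (bar z'))
      · simp only [Functor.map_comp, map_map, (hdv z).map_eq, (hdv z').map_eq]
        simp [barMap, sieveCat_map_left, overCat_map]
      · have e : F.map (H.map (barMap f)) ≫ cX (bar z') = cX (bar z) := hcXn (barMap f)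
        rw [Category.assoc, Category.assoc, hdc, e, hdc, ← Category.assoc, ← y.toFunctor.map_comp,
          toId_naturality]
    let H₀ : Stk.sieveCat R₀ ⥤ᵇ overFp y F :=
      { toFunctor :=
          { obj := fun z => fpMk (F := y) (G := F) z.obj.left (H.obj (bar z)) (d z) (hdv z)
            map := fun f => fpHom f.hom.left (H.map (barMap f)) (hw f)
            map_id := fun z => fp_hom_ext rfl (H.toFunctor.map_id _)
            map_comp := fun f g => fp_hom_ext rfl (H.toFunctor.map_comp (barMap f) (barMap g)) }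
        w := rfl }
    obtain ⟨A, hA, c, hc, hcn⟩ :=
      objGlue_of_essSurj ((h3 U y).2 R₀ hR₀ : (Stk.resSieve R₀ _).IsEquivalence).essSurj H₀
    let up : (Stk.sieveCat R).obj → (Stk.sieveCat R₀).obj := fun w => ⟨Over.mk (toId w.obj), w.property⟩
    let t : ∀ w, w ⟶ bar (up w) := fun w => ObjectProperty.homMk (Over.homMk (𝟙 _) (Category.id_comp _))
    have hA' : A.obj.fst = idObj U := hA
    have hpA : 𝒮.p.obj A.obj.snd = U := by
      have h := (F.w_obj A.obj.snd).symm.trans ((fp_isVert A).obj_eq.symm.trans (y.w_obj _))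
      exact h.trans (congrArg (fun o => o.left) hA')
    refine ⟨A.obj.snd, hpA, fun w => H.map (t w) ≫ (c (up w)).hom.snd, fun w => ?_, fun w w' f => ?_⟩
    · have e := congrArg 𝒯.p.map (c (up w)).hom.w
      simp only [Functor.map_comp, map_map, (fp_isVert (H₀.obj (up w))).map_eq, (fp_isVert A).map_eq] at e
      have e₁ : (c (up w)).hom.fst = _ := hc (up w)
      rw [e₁] at e
      rw [Functor.map_comp, map_map]
      simp [t, sieveCat_map_left, overCat_map, up, H₀] at e ⊢
      rw [← cancel_mono (eqToHom (F.w_obj A.obj.snd).symm)]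
      simp [toId] at e ⊢
      erw [Category.id_comp]
      simp [eqToHom_comp_iff, comp_eqToHom_iff] at e ⊢
      simp [e]
    · let f' : up w ⟶ up w' := ObjectProperty.homMk (Over.homMk f.hom (toId_naturality f.hom))
      have e := congrArg (fun k => k.hom.snd) (hcn f')
      show H.map f ≫ H.map (t w') ≫ (c (up w')).hom.snd = H.map (t w) ≫ (c (up w)).hom.snd
      rw [← e, ← Category.assoc, ← Functor.map_comp]
      show _ = H.map (t w) ≫ H.map (barMap f') ≫ (c (up w')).hom.snd
      rw [← Category.assoc, ← Functor.map_comp]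
      congr 2
      exact ObjectProperty.hom_ext _ (Over.OverMorphism.ext
        ((Category.comp_id _).trans (Category.id_comp _).symm))

end Groth.StkBase
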